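import Cfsg.Agent.H289.D4T.Cent

/-!
# Triality and `CCP`, panels with three chambers: no fixed chamber (helper289, S4114)

* `Sw g d i`, `Fx g d i` : `g` moves the chambers `≠ d`, fixes the chambers of the panel `Pan i d`;
* `T5` : the elements of a simple root group;
* `no_fixed_two` : the conclusion.
-/

set_option autoImplicit false
set_option linter.unusedSectionVars false

open scoped Pointwise

namespace Cfsg.Agent.H289.D4T

open CoxeterSystem Cfsg.Agent.ChevalleyStructure.CoxeterGeom Cfsg.Agent.Tits.Roots Cfsg.Agent.Nodes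
  Cfsg.Agent.Tits.Core Cfsg.Agent.Tits.Core.Bldg Cfsg.Agent.Tits Cfsg.Agent.Tits.Exchange
open Cfsg.Agent.FixBN (Sys)
open Cfsg.Agent.FixOdd (Tw)
open Cfsg.Agent.H289.Tri Cfsg.Agent.H520

variable {W : Type*} [Group W] {cs : CoxeterSystem (TypeD.M 2) W} {C : Type*} {Δ : Bldg cs C}
  {G : Type*} [Group G] [MulAction G C] {l : ℕ} {a b c : Fin 4} {t : Tw Δ G}

/-- `f` moves the chambers `≠ d` of the `i`-panel of `d` -/
def Sw (Δ : Bldg cs C) (f : C → C) (d : C) (i : Fin 4) : Prop := ∀ z, Δ.δ d z = cs.simple i → f z ≠ z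

/-- `f` fixes the chambers of the `i`-panel of `d` -/
def Fx (Δ : Bldg cs C) (f : C → C) (d : C) (i : Fin 4) : Prop := ∀ z ∈ Δ.Pan i d, f z = z

/-- two maps moving the chambers of a panel with three chambers are equal -/
theorem sw_eq {i : Fin 4} {d : C} (h3 : Nat.card (Δ.Pan i d) = 3) {f g : C → C}
    (hf : Sw Δ f d i) (hg : Sw Δ g d i) (hf' : ∀ z, Δ.δ d z = cs.simple i → Δ.δ d (f z) = cs.simple i)
    (hg' : ∀ z, Δ.δ d z = cs.simple i → Δ.δ d (g z) = cs.simple i) {z : C} (hz : Δ.δ d z = cs.simple i) :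
    f z = g z := by
  classical
  by_contra hne
  have hfin : (Δ.Pan i d).Finite := by
    have : Finite (Δ.Pan i d) := Nat.finite_of_card_ne_zero (by omega)
    exact Set.toFinite _
  have h1 : ({d, z, f z, g z} : Set C) ⊆ Δ.Pan i d := by
    rintro y (rfl | rfl | rfl | rfl)
    · exact Δ.self_mem_Pan _ _
    · exact Or.inr hz
    · exact Or.inr (hf' z hz)
    · exact Or.inr (hg' z hz)
  have h2 := Set.ncard_le_ncard h1 hfin
  have hd1 : d ≠ z := Δ.ne_of_δ_simple hz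
  have hd2 : d ≠ f z := Δ.ne_of_δ_simple (hf' z hz)
  have hd3 : d ≠ g z := Δ.ne_of_δ_simple (hg' z hz)
  rw [Set.ncard_insert_of_notMem, Set.ncard_insert_of_notMem, Set.ncard_insert_of_notMem, Set.ncard_singleton] at h2
  · have h4 : Nat.card (Δ.Pan i d) = (Δ.Pan i d).ncard := rfl
    omega
  · exact hne
  · rintro (h | h)
    · exact hf z hz h.symm
    · exact hg z hz h.symm
  · rintro (h | h | h)
    · exact hd1 h
    · exact hd2 h
    · exact hd3 h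

/-- elements of a simple root group -/
def T5 (Δ : Bldg cs C) (G : Type*) [Group G] [MulAction G C] : Prop :=
  ∀ a b c : Fin 4, Out a b c → ∀ d0 d1 : C, Δ.δ d0 d1 = cs.simple 1 →
    ∃ g : G, (∀ z ∈ Δ.Res {1, b, c} d0, g • z = z) ∧ Fx Δ (g • ·) d1 a ∧ Sw Δ (g • ·) d0 a

/-- the third chamber -/
theorem sw_third (S : Sys Δ G l) {a : Fin 4} (ha : a ≠ 1) {g : G} {d0 d1 d2 : C}
    (h02 : Δ.δ d0 d2 = cs.simple 1) (h12 : Δ.δ d1 d2 = cs.simple 1) (hg0 : g • d0 = d0)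
    (h1 : Fx Δ (g • ·) d1 a) (h0 : Sw Δ (g • ·) d0 a) : Sw Δ (g • ·) d2 a := by
  intro z hz hgz
  obtain ⟨e1, he1, -⟩ := Δ.exists_step d1 d1 a
  obtain ⟨e, he, hge⟩ := fano (Δ := Δ) ha (ρ := (g • ·)) (fun x y => S.iso g x y) (e0 := z) (d0 := d2) (d1 := d1)
    (e1 := e1) (d2 := d0) (Δ.δ_symm_simple hz) (Δ.δ_symm_simple h12) he1 (Δ.δ_symm_simple h02) hgz
    (h1 e1 (Or.inr he1)) hg0
  exact h0 e (Δ.δ_symm_simple he) hge

section

variable [Finite C] [Finite G] (S : Sys Δ G l) (D : RotD t a b c) (hccp : CCP t.τ)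

theorem D_θ1 (D : RotD t a b c) {d : C} (hd : t.θ d = d) : ∀ z ∈ Δ.Pan 1 d, t.θ z ∈ Δ.Pan 1 d := by
  intro z hz
  rcases hz with rfl | hz
  · rw [hd]; exact Δ.self_mem_Pan _ _
  · right
    have := t.δ_θ d z
    rwa [hd, hz, t.φ_simple, D.one] at this

include S D hccp in
/-- `θ ^ 3` moves the chambers `≠ d` of the `a`-panel of the fixed chamber `d` -/
theorem sw_θ3 (hT : T2o Δ G) {d : C} (h3 : Nat.card (Δ.Pan a d) = 3) (hd : t.θ d = d) :
    Sw Δ (fun z => t.θ (t.θ (t.θ z))) d a := by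
  have hQ : ∀ z ∈ Δ.Res {a, b, c} d, t.θ z ∈ Δ.Res {a, b, c} d := by
    intro z hz
    have h2 := θ_mem_Res' t (J' := {a, b, c}) (by
      rintro j (rfl | rfl | rfl)
      · rw [D.ab]; simp
      · rw [D.bc]; simp
      · rw [D.ca]; simp) hz
    rwa [hd] at h2
  obtain ⟨β, hβ⟩ := exists_prb D hQ
  obtain ⟨i, hi, hu⟩ := outer_three S D hccp hT hQ h3 hβ
  have hpan : ∀ z ∈ Δ.Pan a d, t.θ (t.θ (t.θ z)) ∈ Δ.Pan a d := by
    intro z hz
    rw [Δ.Pan_eq_Res, mem_Res] at hz ⊢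
    have := D.δ3 d z
    rw [hd, hd, hd] at this
    rwa [this]
  have hb : ∀ z : Δ.Pan a d, (β z : C) = t.θ (t.θ (t.θ z)) := by
    intro z
    exact pr_unique D.out (hpan z z.2) (β z).2 (Δ.self_mem_Res _ _) (hβ z)
  intro z hz hzz
  have h1 : (⟨z, Or.inr hz⟩ : Δ.Pan a d) = i := hu _ (Subtype.ext (by rw [hb]; exact hzz))
  have h2 : (⟨d, Δ.self_mem_Pan _ _⟩ : Δ.Pan a d) = i := hu _ (Subtype.ext (by rw [hb]; rw [hd, hd, hd]))
  rw [← h2] at h1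
  have h4 := congrArg Subtype.val h1
  exact Δ.ne_of_δ_simple hz h4.symm

include S D hccp in
/-- **`θ` fixes the chambers of the central panel.** -/
theorem fix_cent (h5 : T5 Δ G) (h3 : ∀ i d, Nat.card (Δ.Pan i d) = 3) {d0 : C} (hd0 : t.θ d0 = d0) :
    ∀ z ∈ Δ.Pan 1 d0, t.θ z = z := by
  classical
  by_contra hcon
  push Not at hcon
  obtain ⟨d1, hd1, hne⟩ := hcon
  obtain ⟨oa, ob, oc, oab, oac, obc⟩ := D.out
  have h01 : Δ.δ d0 d1 = cs.simple 1 := hd1.resolve_left (fun h => hne (by rw [h, hd0]))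
  obtain ⟨d2, hd2⟩ : ∃ d2, d2 = t.θ d1 := ⟨_, rfl⟩
  rw [← hd2] at hne
  have h02 : Δ.δ d0 d2 = cs.simple 1 := by
    have := t.δ_θ d0 d1
    rwa [hd0, h01, t.φ_simple, D.one, ← hd2] at this
  have h12 : Δ.δ d1 d2 = cs.simple 1 := Δ.δ_eq_of_mem_Pan (Or.inr h01) (Or.inr h02) (Ne.symm hne)
  have h1' : ∀ z, Δ.δ d0 z = cs.simple 1 → Δ.δ d0 (t.θ z) = cs.simple 1 := by
    intro z hz
    have := t.δ_θ d0 z
    rwa [hd0, hz, t.φ_simple, D.one] at this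
  have hall : ∀ z ∈ Δ.Pan 1 d0, z = d0 ∨ z = d1 ∨ z = d2 := by
    intro z hz
    by_contra hcon
    push Not at hcon
    have hsub : ({d0, d1, d2, z} : Set C) ⊆ Δ.Pan 1 d0 := by
      rintro y (rfl | rfl | rfl | rfl)
      · exact Δ.self_mem_Pan _ _
      · exact Or.inr h01
      · exact Or.inr h02
      · exact hz
    have h2 := Set.ncard_le_ncard hsub (Set.toFinite _)
    rw [Set.ncard_insert_of_notMem, Set.ncard_insert_of_notMem, Set.ncard_insert_of_notMem, Set.ncard_singleton] at h2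
    · have h4 : Nat.card (Δ.Pan 1 d0) = (Δ.Pan 1 d0).ncard := rfl
      have := h3 1 d0
      omega
    · exact Ne.symm hcon.2.2
    · rintro (h | h)
      · exact hne h.symm
      · exact hcon.2.1 h.symm
    · rintro (h | h | h)
      · exact Δ.ne_of_δ_simple h01 h
      · exact Δ.ne_of_δ_simple h02 h
      · exact hcon.1 h.symm
  have hd21 : t.θ d2 = d1 := by
    rcases hall _ (Or.inr (h1' d2 h02)) with h | h | h
    · exfalso
      rw [← hd0] at h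
      exact Δ.ne_of_δ_simple h02 (t.θ.injective h).symm
    · exact h
    · exfalso
      rw [hd2] at h
      exact hne (by rw [hd2]; exact t.θ.injective h)
  -- the sets
  set P := Δ.Pan 1 d0 with hP
  have hPθ : ∀ z ∈ P, t.θ z ∈ P := D_θ1 D hd0
  have hPs := symm_mem hPθ
  let Z : Fin 4 → Set C := fun i => {z | ∃ j, j ≠ 1 ∧ j ≠ i ∧ ∃ d ∈ P, z ∈ Δ.Pan j d}
  have hZ : ∀ i, Z i = {z | ∃ j, j ≠ 1 ∧ j ≠ i ∧ ∃ d ∈ P, z ∈ Δ.Pan j d} := fun i => rfl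
  -- `Q = Z 1`
  have hZ1 : ∀ i, Z i ⊆ Z 1 := fun i z ⟨j, hj1, _, d, hd, hz⟩ => ⟨j, hj1, hj1, d, hd, hz⟩
  have hPZ : ∀ i, ∀ d ∈ P, d ∈ Z i := by
    intro i d hd
    have : ∀ i : Fin 4, ∃ j : Fin 4, j ≠ 1 ∧ j ≠ i := by decide
    obtain ⟨j, hj1, hji⟩ := this i
    exact ⟨j, hj1, hji, d, hd, Δ.self_mem_Pan _ _⟩
  have hpan : ∀ {j : Fin 4} {x y : C}, y ∈ Δ.Pan j x → t.θ y ∈ Δ.Pan (t.σ j) (t.θ x) := by
    intro j x y h
    rcases h with rfl | h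
    · exact Δ.self_mem_Pan _ _
    · right
      rw [t.δ_θ, h, t.φ_simple]
  have hpan' : ∀ {j : Fin 4} {x y : C}, y ∈ Δ.Pan (t.σ j) x → t.θ.symm y ∈ Δ.Pan j (t.θ.symm x) := by
    intro j x y h
    rw [Δ.Pan_eq_Res, mem_Res, mem_WJ_singleton] at h ⊢
    have h1 := t.δ_θ (t.θ.symm x) (t.θ.symm y)
    rw [t.θ.apply_symm_apply, t.θ.apply_symm_apply] at h1
    rcases h with h | h
    · left
      rw [h] at h1
      exact (map_eq_one_iff t.φ t.φ.injective).1 h1.symm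
    · right
      rw [h, ← t.φ_simple] at h1
      exact (t.φ.injective h1).symm
  have hZθ : ∀ i, ∀ z ∈ Z (t.σ i), t.θ.symm z ∈ Z i := by
    rintro i z ⟨j, hj1, hji, d, hd, hz⟩
    obtain ⟨j, rfl⟩ := t.σ.surjective j
    refine ⟨j, fun h => hj1 (by rw [h, D.one]), fun h => hji (by rw [h]), t.θ.symm d, hPs d hd, hpan' hz⟩
  have hfxτ : ∀ i, ∀ g ∈ fxS G (Z i), t.τ g ∈ fxS G (Z (t.σ i)) := by
    intro i g hg d hd
    have h2 : t.θ (g • t.θ.symm d) = t.τ g • d := by rw [t.θ_smul, t.θ.apply_symm_apply]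
    rw [← h2, hg _ (hZθ i d hd), t.θ.apply_symm_apply]
  have hsmul : ∀ {g : G} {j : Fin 4} {x y : C}, y ∈ Δ.Pan j x → g • y ∈ Δ.Pan j (g • x) := by
    intro g j x y h
    rw [Δ.Pan_eq_Res, mem_Res] at h ⊢
    rwa [S.iso]
  have hstZ : stS G P ≤ stS G (Z 1) := by
    intro g hg
    rw [mem_stS]
    rintro z ⟨j, hj1, hji, d, hd, hz⟩
    exact ⟨j, hj1, hji, g • d, mem_stS.1 hg d hd, hsmul hz⟩
  have hAst : ∀ i, fxS G (Z i) ≤ stS G P := fun i g hg => mem_stS.2 fun d hd => by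
    rw [hg d (hPZ i d hd)]; exact hd
  -- commutators
  have hcomm : ∀ i j : Fin 4, i ≠ j → ∀ x ∈ fxS G (Z i), ∀ y ∈ fxS G (Z j),
      (x * y)⁻¹ * (y * x) ∈ fxS G (Z 1) := by
    intro i j hij x hx y hy z hz
    rw [mul_smul, inv_smul_eq_iff]
    obtain ⟨k, hk1, -, d, hd, hzd⟩ := hz
    have x1 : x • d = d := hx d (hPZ i d hd)
    have y1 : y • d = d := hy d (hPZ j d hd)
    rw [mul_smul, mul_smul]
    by_cases hki : k = i
    · have hkj : k ≠ j := fun h => hij (hki.symm.trans h)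
      have e1 : y • z = z := hy z ⟨k, hk1, hkj, d, hd, hzd⟩
      have e2 : y • x • z = x • z := hy _ ⟨k, hk1, hkj, d, hd, by
        have := hsmul (g := x) hzd
        rwa [x1] at this⟩
      rw [e1, e2]
    · have e1 : x • z = z := hx z ⟨k, hk1, hki, d, hd, hzd⟩
      have e2 : x • y • z = y • z := hx _ ⟨k, hk1, hki, d, hd, by
        have := hsmul (g := y) hzd
        rwa [y1] at this⟩
      rw [e1, e2]
  -- the element
  obtain ⟨w, hw1, hw2, hw3⟩ := h5 a b c D.out d0 d1 h01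
  have hw0 : w • d0 = d0 := hw1 _ (Δ.self_mem_Res _ _)
  have hw4 := sw_third S oa h02 h12 hw0 hw2 hw3
  have hwA : w ∈ fxS G (Z a) := by
    rintro z ⟨j, hj1, hja, d, hd, hz⟩
    refine hw1 z (Δ.mem_Res_trans (Δ.Pan_subset_Res (J := {1, b, c}) (by simp) _ hd)
      (Δ.Pan_subset_Res (J := {1, b, c}) ?_ _ hz))
    rcases out_all a b c D.out j with rfl | rfl | rfl | rfl
    · exact absurd rfl hj1
    · exact absurd rfl hja
    · simp
    · simp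
  have hτ3 : ∀ y ∈ fxS G (Z a), t.τ (t.τ (t.τ y)) ∈ fxS G (Z a) := by
    intro y hy
    have := hfxτ _ _ (hfxτ _ _ (hfxτ _ _ hy))
    rwa [D.σ3] at this
  have hact : ∀ (y : G) (z : C), t.τ (t.τ (t.τ y)) • t.θ (t.θ (t.θ z)) = t.θ (t.θ (t.θ (y • z))) := by
    intro y z
    rw [t.θ_smul, t.θ_smul, t.θ_smul]
  -- transport of `Fx` and `Sw`
  have hFx : ∀ (y : G) (d d' : C), t.θ (t.θ (t.θ d)) = d' → Fx Δ (y • ·) d a → Fx Δ (t.τ (t.τ (t.τ y)) • ·) d' a := by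
    intro y d d' hd h z hz
    obtain ⟨z, rfl⟩ := t.θ.surjective z
    obtain ⟨z, rfl⟩ := t.θ.surjective z
    obtain ⟨z, rfl⟩ := t.θ.surjective z
    have hz' : z ∈ Δ.Pan a d := by
      rw [Δ.Pan_eq_Res, mem_Res, ← hd, D.δ3] at hz
      rwa [Δ.Pan_eq_Res, mem_Res]
    change t.τ (t.τ (t.τ y)) • t.θ (t.θ (t.θ z)) = _
    rw [hact]
    congr 3
    exact h z hz'
  have hSw : ∀ (y : G) (d d' : C), t.θ (t.θ (t.θ d)) = d' → Sw Δ (y • ·) d a → Sw Δ (t.τ (t.τ (t.τ y)) • ·) d' a := by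
    intro y d d' hd h z hz hzz
    obtain ⟨z, rfl⟩ := t.θ.surjective z
    obtain ⟨z, rfl⟩ := t.θ.surjective z
    obtain ⟨z, rfl⟩ := t.θ.surjective z
    rw [← hd, D.δ3] at hz
    change t.τ (t.τ (t.τ y)) • t.θ (t.θ (t.θ z)) = _ at hzz
    rw [hact] at hzz
    exact h z hz (t.θ.injective (t.θ.injective (t.θ.injective hzz)))
  have t0 : t.θ (t.θ (t.θ d0)) = d0 := by rw [hd0, hd0, hd0]
  have t1 : t.θ (t.θ (t.θ d1)) = d2 := by rw [← hd2, hd21, ← hd2]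
  have t2 : t.θ (t.θ (t.θ d2)) = d1 := by rw [hd21, ← hd2, hd21]
  obtain ⟨w', hw'⟩ : ∃ w', w' = t.τ (t.τ (t.τ w)) := ⟨_, rfl⟩
  have hw'A : w' ∈ fxS G (Z a) := hw' ▸ hτ3 w hwA
  have v0 : Sw Δ (w' • ·) d0 a := hw' ▸ hSw w d0 d0 t0 hw3
  have v1 : Sw Δ (w' • ·) d1 a := hw' ▸ hSw w d2 d1 t2 hw4
  have v2 : Fx Δ (w' • ·) d2 a := hw' ▸ hFx w d1 d2 t1 hw2
  have m0 : d0 ∈ P := Δ.self_mem_Pan _ _
  have m1 : d1 ∈ P := Or.inr h01
  have m2 : d2 ∈ P := Or.inr h02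
  have hδ : ∀ {g : G} {d z : C}, g ∈ fxS G (Z a) → d ∈ P → Δ.δ d z = cs.simple a → Δ.δ d (g • z) = cs.simple a := by
    intro g d z hg hd hz
    have := S.iso g d z
    rwa [hg d (hPZ a d hd), hz] at this
  -- `k = w⁻¹ * τ³ w`
  obtain ⟨k, hk⟩ : ∃ k, k = w⁻¹ * w' := ⟨_, rfl⟩
  have hkA : k ∈ fxS G (Z a) := hk ▸ mul_mem (inv_mem hwA) hw'A
  have k0 : Fx Δ (k • ·) d0 a := by
    intro z hz
    rcases hz with rfl | hz
    · exact hkA z (hPZ a _ m0)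
    · change k • z = z
      rw [hk, mul_smul, inv_smul_eq_iff]
      exact sw_eq (h3 a d0) v0 hw3 (fun z hz => hδ hw'A m0 hz) (fun z hz => hδ hwA m0 hz) hz
  have k1 : Sw Δ (k • ·) d1 a := by
    intro z hz hzz
    change k • z = z at hzz
    rw [hk, mul_smul, inv_smul_eq_iff] at hzz
    have h6 : w • z = z := hw2 z (Or.inr hz)
    rw [h6] at hzz
    exact v1 z hz hzz
  have k2 : Sw Δ (k • ·) d2 a := by
    intro z hz hzz
    change k • z = z at hzz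
    have h6 : w' • z = z := v2 z (Or.inr hz)
    rw [hk, mul_smul, inv_smul_eq_iff, h6] at hzz
    exact hw4 z hz hzz.symm
  obtain ⟨k', hk'⟩ : ∃ k', k' = t.τ (t.τ (t.τ k)) := ⟨_, rfl⟩
  have hk'A : k' ∈ fxS G (Z a) := hk' ▸ hτ3 k hkA
  have k0' : Fx Δ (k' • ·) d0 a := hk' ▸ hFx k d0 d0 t0 k0
  have k1' : Sw Δ (k' • ·) d1 a := hk' ▸ hSw k d2 d1 t2 k2
  have k2' : Sw Δ (k' • ·) d2 a := hk' ▸ hSw k d1 d2 t1 k1
  -- elements trivial on the panels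
  have hN : ∀ g ∈ fxS G (Z a), (∀ d ∈ P, ∀ z, Δ.δ d z = cs.simple a → g • z = z) → g ∈ fxS G (Z 1) := by
    rintro g hg h z ⟨j, hj1, -, d, hd, hz⟩
    by_cases hja : j = a
    · rcases hz with rfl | hz
      · exact hg z (hPZ a z hd)
      · exact h d hd z (by rw [← hja]; exact hz)
    · exact hg z ⟨j, hj1, hja, d, hd, hz⟩
  have hσ2 : a ≠ t.σ (t.σ a) := by rw [D.ab, D.bc]; exact oac
  have hσ1 : a ≠ t.σ a := by rw [D.ab]; exact oab
  have hk3N : k⁻¹ * t.τ (t.τ (t.τ k)) ∈ fxS G (Z 1) := by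
    rw [← hk']
    refine hN _ (mul_mem (inv_mem hkA) hk'A) fun d hd z hz => ?_
    rw [mul_smul, inv_smul_eq_iff]
    rcases hall d hd with rfl | rfl | rfl
    · have e1 : k • z = z := k0 z (Or.inr hz)
      have e2 : k' • z = z := k0' z (Or.inr hz)
      rw [e1, e2]
    · exact sw_eq (h3 a _) k1' k1 (fun z hz => hδ hk'A hd hz) (fun z hz => hδ hkA hd hz) hz
    · exact sw_eq (h3 a _) k2' k2 (fun z hz => hδ hk'A hd hz) (fun z hz => hδ hkA hd hz) hz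
  have hkk : k * k ∈ fxS G (Z 1) := by
    refine hN _ (mul_mem hkA hkA) fun d hd z hz => ?_
    rw [mul_smul]
    have key : ∀ d ∈ P, Sw Δ (k • ·) d a → ∀ z, Δ.δ d z = cs.simple a → k • k • z = z := by
      intro d hd hs z hz
      rw [← eq_inv_smul_iff]
      refine sw_eq (h3 a d) hs (g := (k⁻¹ • ·)) ?_ (fun z hz => hδ hkA hd hz)
        (fun z hz => hδ (inv_mem hkA) hd hz) hz
      intro y hy hyy
      change k⁻¹ • y = y at hyy
      rw [inv_smul_eq_iff] at hyy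
      exact hs y hy hyy.symm
    rcases hall d hd with rfl | rfl | rfl
    · have e1 : k • z = z := k0 z (Or.inr hz)
      rw [e1, e1]
    · exact key _ hd k1 z hz
    · exact key _ hd k2 z hz
  have key := tri hccp (H := stS G P) (N := fxS G (Z 1)) (A := fxS G (Z a)) (stS_τ hPs hPθ)
    (fun g hg => by have := hfxτ 1 g hg; rwa [D.one] at this) (fun x hx y hy => fxS_conj x (hstZ hx) y hy) (hAst a)
    (fun x hx y hy => hcomm _ _ hσ1 x hx _ (hfxτ _ _ hy))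
    (fun x hx y hy => hcomm _ _ hσ2 x hx _ (hfxτ _ _ (hfxτ _ _ hy))) hkA hwA (one_mem _) (one_mem _) (one_mem _)
    hk3N (by
      rw [← hw', ← hk]
      have : k⁻¹ * (1 * k * 1⁻¹ * (1 * k * 1⁻¹) * (1 * k * 1⁻¹)) = k * k := by group
      rw [this]
      exact hkk)
  -- the contradiction
  obtain ⟨z, hz, -⟩ := Δ.exists_step d1 d1 a
  have e1 : t.τ (t.τ k) • z = z := (hfxτ _ _ (hfxτ _ _ hkA)) z ⟨a, oa, hσ2, d1, m1, Or.inr hz⟩
  have e2 : t.τ k • z = z := (hfxτ _ _ hkA) z ⟨a, oa, hσ1, d1, m1, Or.inr hz⟩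
  have e3 := key z ⟨a, oa, oa, d1, m1, Or.inr hz⟩
  rw [mul_smul, mul_smul, e1, e2] at e3
  exact k1 z hz e3

include S D hccp in
/-- **No fixed chamber.** -/
theorem no_fixed_two (hT : T2o Δ G) (h5 : T5 Δ G) (h3 : ∀ i d, Nat.card (Δ.Pan i d) = 3) {d0 : C}
    (hd0 : t.θ d0 = d0) : False := by
  classical
  obtain ⟨oa, ob, oc, oab, oac, obc⟩ := D.out
  have hfix := fix_cent S D hccp h5 h3 hd0
  obtain ⟨d1, h01, -⟩ := Δ.exists_step d0 d0 1
  obtain ⟨d2, hd2, hne⟩ : ∃ d2 ∈ Δ.Pan 1 d0, d2 ≠ d0 ∧ d2 ≠ d1 := by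
    by_contra hcon
    push Not at hcon
    have hsub : Δ.Pan 1 d0 ⊆ {d0, d1} := by
      intro z hz
      by_cases hzx : z = d0
      · exact Or.inl hzx
      · exact Or.inr (hcon z hz hzx)
    have h1 : (Δ.Pan 1 d0).ncard ≤ 2 := (Set.ncard_le_ncard hsub (Set.toFinite _)).trans
      ((Set.ncard_insert_le _ _).trans (by rw [Set.ncard_singleton]))
    have h2 : Nat.card (Δ.Pan 1 d0) = (Δ.Pan 1 d0).ncard := rfl
    have := h3 1 d0
    omega
  have h02 : Δ.δ d0 d2 = cs.simple 1 := hd2.resolve_left hne.1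
  have h12 : Δ.δ d1 d2 = cs.simple 1 := Δ.δ_eq_of_mem_Pan (Or.inr h01) hd2 (Ne.symm hne.2)
  have f1 : t.θ d1 = d1 := hfix d1 (Or.inr h01)
  have f2 : t.θ d2 = d2 := hfix d2 hd2
  obtain ⟨w, hw1, hw2, hw3⟩ := h5 a b c D.out d0 d1 h01
  have hw0 : w • d0 = d0 := hw1 _ (Δ.self_mem_Res _ _)
  have hwd1 : w • d1 = d1 := hw1 _ (by rw [mem_Res, h01]; exact simple_mem_WJ cs (by simp))
  have hwd2 : w • d2 = d2 := hw1 _ (by rw [mem_Res, h02]; exact simple_mem_WJ cs (by simp))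
  have hw4 := sw_third S oa h02 h12 hw0 hw2 hw3
  have s0 := sw_θ3 S D hccp hT (h3 a d0) hd0
  have s1 := sw_θ3 S D hccp hT (h3 a d1) f1
  have s2 := sw_θ3 S D hccp hT (h3 a d2) f2
  have hθδ : ∀ {d z : C}, t.θ d = d → Δ.δ d z = cs.simple a → Δ.δ d (t.θ (t.θ (t.θ z))) = cs.simple a := by
    intro d z hd hz
    have := D.δ3 d z
    rwa [hd, hd, hd, hz] at this
  have hwδ : ∀ {d z : C}, w • d = d → Δ.δ d z = cs.simple a → Δ.δ d (w • z) = cs.simple a := by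
    intro d z hd hz
    have := S.iso w d z
    rwa [hd, hz] at this
  -- `ρ = w⁻¹ θ³`
  have hρ : ∀ {d z : C}, t.θ d = d → w • d = d → Sw Δ (w • ·) d a → Sw Δ (fun z => t.θ (t.θ (t.θ z))) d a →
      Δ.δ d z = cs.simple a → w⁻¹ • t.θ (t.θ (t.θ z)) = z := by
    intro d z hd hwd hs hs' hz
    rw [inv_smul_eq_iff]
    exact sw_eq (h3 a d) hs' hs (fun z hz => hθδ hd hz) (fun z hz => hwδ hwd hz) hz
  obtain ⟨e0, he0, -⟩ := Δ.exists_step d0 d0 a
  obtain ⟨e2, he2, -⟩ := Δ.exists_step d2 d2 a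
  obtain ⟨e, he, hee⟩ := fano (Δ := Δ) oa (ρ := fun z => w⁻¹ • t.θ (t.θ (t.θ z)))
    (fun x y => by rw [S.iso, D.δ3]) (e0 := e0) (d0 := d0) (d1 := d2) (e1 := e2) (d2 := d1)
    (Δ.δ_symm_simple he0) h02 he2 h01 (hρ hd0 hw0 hw3 s0 he0) (hρ f2 hwd2 hw4 s2 he2)
    (by show w⁻¹ • t.θ (t.θ (t.θ d1)) = d1; rw [f1, f1, f1, inv_smul_eq_iff, hwd1])
  change w⁻¹ • t.θ (t.θ (t.θ e)) = e at hee
  rw [inv_smul_eq_iff] at hee
  have h7 : w • e = e := hw2 e (Or.inr (Δ.δ_symm_simple he))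
  rw [h7] at hee
  exact s1 e (Δ.δ_symm_simple he) hee

end

end Cfsg.Agent.H289.D4T
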