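import Cfsg.Agent.H520.CcpCfg

/-!
# `CCP` modulo a normal subgroup, groups permuted cyclically (helper289, S4114, triality)

* `f1` : (F1) modulo a normal subgroup of an invariant subgroup;
* `tri` : three commuting subgroups permuted cyclically.
-/

set_option autoImplicit false

namespace Cfsg.Agent.H289.D4T

open Subgroup Cfsg.Agent.H520

/-- **(F1)** modulo `N`. -/
theorem f1 {G : Type*} [Group G] [Finite G] {α : MulAut G} (h : CCP α) {H N : Subgroup G}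
    (hH : ∀ x ∈ H, α x ∈ H) (hN : ∀ x ∈ N, α x ∈ N) (hn : ∀ x ∈ H, ∀ y ∈ N, x * y * x⁻¹ ∈ N) {c g k : G}
    (hc : c ∈ H) (hg : g ∈ H) (hk : k ∈ H) (h1 : c⁻¹ * α c ∈ N) (h2 : c⁻¹ * (k * (g⁻¹ * α g) * k⁻¹) ∈ N) :
    c ∈ N := by
  have hnorm : (N.subgroupOf H).Normal := ⟨fun y hy x => hn x.1 x.2 y.1 hy⟩
  have hN' : ∀ m ∈ N.subgroupOf H, resA α H hH m ∈ N.subgroupOf H := fun m hm => hN m.1 hm
  have h3 := (h.res H hH).quo (N.subgroupOf H) hN'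
  have h4 := h3.not_conj (c := QuotientGroup.mk (⟨c, hc⟩ : H)) (g := QuotientGroup.mk (⟨g, hg⟩ : H))
    (k := QuotientGroup.mk (⟨k, hk⟩ : H)) (by
      rw [quoA_mk, eq_comm, QuotientGroup.eq]
      exact h1) (by
      rw [quoA_mk, ← QuotientGroup.mk_inv, ← QuotientGroup.mk_inv, ← QuotientGroup.mk_mul, ← QuotientGroup.mk_mul,
        ← QuotientGroup.mk_mul, eq_comm, QuotientGroup.eq]
      exact h2)
  have h5 := (QuotientGroup.eq_one_iff _).1 h4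
  exact h5

/-- **Three commuting subgroups permuted cyclically.** -/
theorem tri0 {G : Type*} [Group G] [Finite G] {γ : MulAut G} (h : CCP γ) {A : Subgroup G}
    (h1 : ∀ x ∈ A, ∀ y ∈ A, x * γ y = γ y * x) (h2 : ∀ x ∈ A, ∀ y ∈ A, x * γ (γ y) = γ (γ y) * x)
    {k w x₁ x₂ x₃ : G} (hk : k ∈ A) (hw : w ∈ A) (hx1 : x₁ ∈ A) (hx2 : x₂ ∈ A)
    (hx3 : x₃ ∈ A) (hk3 : γ (γ (γ k)) = k)
    (e : w⁻¹ * γ (γ (γ w)) = x₃ * k * x₃⁻¹ * (x₂ * k * x₂⁻¹) * (x₁ * k * x₁⁻¹)) : k * γ k * γ (γ k) = 1 := by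
  have g1 : ∀ x ∈ A, ∀ y ∈ A, γ x * γ (γ y) = γ (γ y) * γ x := fun x hx y hy => by
    rw [← map_mul, h1 x hx y hy, map_mul]
  obtain ⟨b₁, hb1⟩ : ∃ b, b = x₁ * k * x₁⁻¹ := ⟨_, rfl⟩
  obtain ⟨b₂, hb2⟩ : ∃ b, b = x₂ * k * x₂⁻¹ := ⟨_, rfl⟩
  obtain ⟨b₃, hb3⟩ : ∃ b, b = x₃ * k * x₃⁻¹ := ⟨_, rfl⟩
  rw [← hb1, ← hb2, ← hb3] at e
  have m1 : b₁ ∈ A := hb1 ▸ mul_mem (mul_mem hx1 hk) (inv_mem hx1)
  have m2 : b₂ ∈ A := hb2 ▸ mul_mem (mul_mem hx2 hk) (inv_mem hx2)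
  have m3 : b₃ ∈ A := hb3 ▸ mul_mem (mul_mem hx3 hk) (inv_mem hx3)
  have hcf : γ (k * γ k * γ (γ k)) = k * γ k * γ (γ k) := by
    rw [map_mul, map_mul, hk3, mul_assoc, ← h2 k hk k hk, ← mul_assoc, ← h1 k hk k hk]
  -- the elements
  obtain ⟨v, hv⟩ : ∃ v, v = w * b₃ := ⟨_, rfl⟩
  obtain ⟨u, hu⟩ : ∃ u, u = v * b₂ := ⟨_, rfl⟩
  obtain ⟨w3, hw3⟩ : ∃ w3, w3 = γ (γ (γ w)) := ⟨_, rfl⟩
  have mv : v ∈ A := hv ▸ mul_mem hw m3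
  have mu : u ∈ A := hu ▸ mul_mem mv m2
  have e' : w3 = w * (b₃ * b₂ * b₁) := by rw [← e, hw3]; group
  have q1 : v⁻¹ * u = b₂ := by rw [hu]; group
  have q2 : w⁻¹ * v = b₃ := by rw [hv]; group
  have q3 : u⁻¹ * w3 = b₁ := by rw [e', hu, hv]; group
  have hgg : (u * γ v * γ (γ w))⁻¹ * γ (u * γ v * γ (γ w)) = b₁ * γ b₂ * γ (γ b₃) := by
    have s1 : u⁻¹ * γ u = γ u * u⁻¹ := h1 _ (inv_mem mu) _ mu
    have s2 : u⁻¹ * γ (γ v) = γ (γ v) * u⁻¹ := h2 _ (inv_mem mu) _ mv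
    calc (u * γ v * γ (γ w))⁻¹ * γ (u * γ v * γ (γ w))
        = (γ (γ w))⁻¹ * (γ v)⁻¹ * (u⁻¹ * γ u) * γ (γ v) * w3 := by rw [map_mul, map_mul, ← hw3]; group
      _ = (γ (γ w))⁻¹ * (γ v)⁻¹ * γ u * (u⁻¹ * γ (γ v)) * w3 := by rw [s1]; group
      _ = (γ (γ w))⁻¹ * γ (v⁻¹ * u) * γ (γ v) * (u⁻¹ * w3) := by rw [s2, map_mul, map_inv]; group
      _ = (γ (γ w))⁻¹ * (γ b₂ * γ (γ v)) * b₁ := by rw [q1, q3]; group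
      _ = γ (γ (w⁻¹ * v)) * γ b₂ * b₁ := by rw [g1 _ m2 _ mv]; simp only [map_mul, map_inv]; group
      _ = γ (γ b₃) * (γ b₂ * b₁) := by rw [q2]; group
      _ = γ (γ b₃) * b₁ * γ b₂ := by rw [← h1 _ m1 _ m2]; group
      _ = b₁ * (γ (γ b₃) * γ b₂) := by rw [← h2 _ m1 _ m3]; group
      _ = _ := by rw [← g1 _ m2 _ m3]; group
  have hXc : (x₁ * γ x₂ * γ (γ x₃)) * (k * γ k * γ (γ k)) * (x₁ * γ x₂ * γ (γ x₃))⁻¹ =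
      b₁ * γ b₂ * γ (γ b₃) := by
    have a1 := h1 k hk x₂ hx2
    have a2 := h2 k hk x₃ hx3
    have a3 := g1 k hk x₃ hx3
    have b1 := h1 _ (inv_mem hx1) _ m2
    have b2 := h2 _ (inv_mem hx1) _ m3
    have a4 : γ (γ b₃) * (γ x₂)⁻¹ = (γ x₂)⁻¹ * γ (γ b₃) := by
      have := g1 _ (inv_mem hx2) _ m3
      rw [map_inv] at this
      exact this.symm
    have e2 : γ b₂ = γ x₂ * γ k * (γ x₂)⁻¹ := by rw [hb2]; simp only [map_mul, map_inv]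
    have e3 : γ (γ b₃) = γ (γ x₃) * γ (γ k) * (γ (γ x₃))⁻¹ := by rw [hb3]; simp only [map_mul, map_inv]
    calc (x₁ * γ x₂ * γ (γ x₃)) * (k * γ k * γ (γ k)) * (x₁ * γ x₂ * γ (γ x₃))⁻¹
        = x₁ * γ x₂ * (γ (γ x₃) * k) * γ k * (γ (γ k) * (γ (γ x₃))⁻¹) * (γ x₂)⁻¹ * x₁⁻¹ := by group
      _ = x₁ * (γ x₂ * k) * (γ (γ x₃) * γ k) * (γ (γ k) * (γ (γ x₃))⁻¹) * (γ x₂)⁻¹ * x₁⁻¹ := by
          rw [← a2]; group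
      _ = x₁ * k * (γ x₂ * γ k) * (γ (γ x₃) * γ (γ k) * (γ (γ x₃))⁻¹ * (γ x₂)⁻¹) * x₁⁻¹ := by
          rw [← a1, ← a3]; group
      _ = x₁ * k * (γ x₂ * γ k * (γ x₂)⁻¹) * (γ (γ b₃) * x₁⁻¹) := by
          rw [← e3, a4]; group
      _ = x₁ * k * (γ b₂ * x₁⁻¹) * γ (γ b₃) := by rw [← b2, ← e2]; group
      _ = _ := by rw [← b1, hb1]; group
  refine h.not_conj hcf (g := u * γ v * γ (γ w)) (k := (x₁ * γ x₂ * γ (γ x₃))⁻¹) ?_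
  rw [hgg, ← hXc]
  group

/-- **Three subgroups permuted cyclically**, commuting modulo `N`. -/
theorem tri {G : Type*} [Group G] [Finite G] {α : MulAut G} (h : CCP α) {H N A : Subgroup G}
    (hH : ∀ x ∈ H, α x ∈ H) (hN : ∀ x ∈ N, α x ∈ N) (hn : ∀ x ∈ H, ∀ y ∈ N, x * y * x⁻¹ ∈ N) (hA : A ≤ H)
    (h1 : ∀ x ∈ A, ∀ y ∈ A, (x * α y)⁻¹ * (α y * x) ∈ N)
    (h2 : ∀ x ∈ A, ∀ y ∈ A, (x * α (α y))⁻¹ * (α (α y) * x) ∈ N)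
    {k w x₁ x₂ x₃ : G} (hk : k ∈ A) (hw : w ∈ A) (hx1 : x₁ ∈ A) (hx2 : x₂ ∈ A)
    (hx3 : x₃ ∈ A) (hk3 : k⁻¹ * α (α (α k)) ∈ N)
    (e : (w⁻¹ * α (α (α w)))⁻¹ * (x₃ * k * x₃⁻¹ * (x₂ * k * x₂⁻¹) * (x₁ * k * x₁⁻¹)) ∈ N) :
    k * α k * α (α k) ∈ N := by
  have hnorm : (N.subgroupOf H).Normal := ⟨fun y hy x => hn x.1 x.2 y.1 hy⟩
  have hN' : ∀ m ∈ N.subgroupOf H, resA α H hH m ∈ N.subgroupOf H := fun m hm => hN m.1 hm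
  have hc := (h.res H hH).quo (N.subgroupOf H) hN'
  set π := QuotientGroup.mk' (N.subgroupOf H) with hπ
  set γ := quoA (resA α H hH) (N.subgroupOf H) hN' with hγ
  have hγπ : ∀ x (hx : x ∈ H), γ (π ⟨x, hx⟩) = π ⟨α x, hH x hx⟩ := fun x hx => rfl
  have heq : ∀ x y (hx : x ∈ H) (hy : y ∈ H), x⁻¹ * y ∈ N → π ⟨x, hx⟩ = π ⟨y, hy⟩ := fun x y hx hy hxy =>
    QuotientGroup.eq.2 hxy
  have mem : ∀ z, z ∈ (A.subgroupOf H).map π ↔ ∃ x, ∃ hx : x ∈ A, z = π ⟨x, hA hx⟩ := by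
    intro z
    constructor
    · rintro ⟨⟨x, hx⟩, hxA, rfl⟩
      exact ⟨x, hxA, rfl⟩
    · rintro ⟨x, hx, rfl⟩
      exact ⟨⟨x, hA hx⟩, hx, rfl⟩
  have hm : ∀ x (hx : x ∈ A), π ⟨x, hA hx⟩ ∈ (A.subgroupOf H).map π := fun x hx => (mem _).2 ⟨x, hx, rfl⟩
  have key := tri0 hc (A := (A.subgroupOf H).map π) (k := π ⟨k, hA hk⟩) (w := π ⟨w, hA hw⟩) (x₁ := π ⟨x₁, hA hx1⟩)
    (x₂ := π ⟨x₂, hA hx2⟩) (x₃ := π ⟨x₃, hA hx3⟩) ?_ ?_ (hm _ hk) (hm _ hw) (hm _ hx1) (hm _ hx2)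
    (hm _ hx3) ?_ ?_
  · rw [hγπ, hγπ, ← map_mul, ← map_mul] at key
    have h5 := (QuotientGroup.eq_one_iff _).1 key
    exact h5
  · rintro x hx y hy
    obtain ⟨x, hx', rfl⟩ := (mem x).1 hx
    obtain ⟨y, hy', rfl⟩ := (mem y).1 hy
    rw [hγπ, ← map_mul, ← map_mul]
    exact heq _ _ _ _ (h1 x hx' y hy')
  · rintro x hx y hy
    obtain ⟨x, hx', rfl⟩ := (mem x).1 hx
    obtain ⟨y, hy', rfl⟩ := (mem y).1 hy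
    rw [hγπ, hγπ, ← map_mul, ← map_mul]
    exact heq _ _ _ _ (h2 x hx' y hy')
  · rw [hγπ, hγπ, hγπ]
    exact (heq _ _ _ _ hk3).symm
  · rw [hγπ, hγπ, hγπ]
    simp only [← map_mul, ← map_inv]
    exact heq _ _ _ _ e

end Cfsg.Agent.H289.D4T
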