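import Cfsg.Agent.H289.D4T.Outer

/-!
# Triality and `CCP`: panels of the central type (helper289, S4114)

* `DT` : the group is transitive on the pairs of chambers of the same distance;
* `cent_panel` : an invariant panel of type `1` with three or four chambers contains a fixed chamber.
-/

set_option autoImplicit false
set_option linter.unusedSectionVars false

open scoped Pointwise

namespace Cfsg.Agent.H289.D4T

open CoxeterSystem Cfsg.Agent.ChevalleyStructure.CoxeterGeom Cfsg.Agent.Tits.Roots Cfsg.Agent.Nodes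
  Cfsg.Agent.Tits.Core Cfsg.Agent.Tits.Core.Bldg Cfsg.Agent.Tits Cfsg.Agent.Tits.Exchange
open Cfsg.Agent.FixBN (Sys)
open Cfsg.Agent.FixOdd (Tw)
open Cfsg.Agent.H289.Tri Cfsg.Agent.H520

variable {W : Type*} [Group W] {cs : CoxeterSystem (TypeD.M 2) W} {C : Type*} {Δ : Bldg cs C}
  {G : Type*} [Group G] [MulAction G C] {l : ℕ} {a b c : Fin 4} {t : Tw Δ G}

/-- the group is transitive on the pairs of chambers of the same distance -/
def DT (Δ : Bldg cs C) (G : Type*) [Group G] [MulAction G C] : Prop :=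
  ∀ x y x' y' : C, Δ.δ x y = Δ.δ x' y' → ∃ g : G, g • x = x' ∧ g • y = y'

theorem DT.t2 [Finite C] (hD : DT Δ G) (S : Sys Δ G l) (i : Fin 4) (x : C) : T2 (stS G (Δ.Pan i x)) (Δ.Pan i x) := by
  refine ⟨fun g hg z hz => mem_stS.1 hg z hz, fun y hy d hd e he hdy hey => ?_⟩
  have h1 : Δ.δ y d = cs.simple i := Δ.δ_eq_of_mem_Pan hy hd (Ne.symm hdy)
  have h2 : Δ.δ y e = cs.simple i := Δ.δ_eq_of_mem_Pan hy he (Ne.symm hey)
  obtain ⟨g, hg1, hg2⟩ := hD y d y e (h1.trans h2.symm)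
  refine ⟨g, mem_stS.2 fun z hz => ?_, hg1, hg2⟩
  rw [← Δ.Pan_eq_of_mem hy, Δ.Pan_eq_Res, mem_Res] at hz ⊢
  have := S.iso g y z
  rw [hg1] at this
  rwa [this]

/-- **An invariant panel of the central type.** -/
theorem cent_panel [Finite C] [Finite G] (S : Sys Δ G l) (hD : DT Δ G) (hccp : CCP t.τ) {x : C}
    (hQ : ∀ d ∈ Δ.Pan 1 x, t.θ d ∈ Δ.Pan 1 x) (hfix : ∀ z ∈ Δ.Pan 1 x, t.θ z ≠ z)
    (hcard : Nat.card (Δ.Pan 1 x) = 3 ∨ Nat.card (Δ.Pan 1 x) = 4) : False := by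
  classical
  set P := Δ.Pan 1 x with hP
  have hQs := symm_mem hQ
  have h2 := hD.t2 S 1 x
  -- the permutation
  let β : Equiv.Perm P :=
    { toFun := fun z => ⟨t.θ z, hQ z z.2⟩
      invFun := fun z => ⟨t.θ.symm z, hQs z z.2⟩
      left_inv := fun z => Subtype.ext (t.θ.symm_apply_apply _)
      right_inv := fun z => Subtype.ext (t.θ.apply_symm_apply _) }
  have hβ : ∀ z, (β z : C) = t.θ z := fun z => rfl
  have hβ' : ∀ i, β i ≠ i := fun i h => hfix i i.2 (by rw [← hβ, h])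
  obtain ⟨π, hπ, hπ1, hπ2⟩ : ∃ π : Equiv.Perm P, (∃ g ∈ stS G P, ∀ z : P, g • (z : C) = π z) ∧
      π⁻¹ * (β * π * β⁻¹) ≠ 1 ∧ β * (π⁻¹ * (β * π * β⁻¹)) = π⁻¹ * (β * π * β⁻¹) * β := by
    rcases hcard with h | h
    · have : Finite P := Nat.finite_of_card_ne_zero (by omega)
      obtain ⟨g, h1, h3⟩ := c3' h β hβ'
      exact ⟨g, exists_three h2 h g, h1, h3⟩
    · have : Finite P := Nat.finite_of_card_ne_zero (by omega)
      obtain ⟨g, h0, h1, h3⟩ := c4' h β hβ'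
      exact ⟨g, exists_four h2 h h0, h1, h3⟩
  obtain ⟨g, hg, hgπ⟩ := hπ
  have hst : ∀ y ∈ stS G P, t.τ y ∈ stS G P := stS_τ hQs hQ
  have hτ : ∀ y (hy : y ∈ stS G P), ind h2.1 ⟨t.τ y, hst y hy⟩ = β * ind h2.1 ⟨y, hy⟩ * β⁻¹ := by
    intro y hy
    rw [eq_mul_inv_iff_mul_eq]
    ext z
    rw [Equiv.Perm.mul_apply, Equiv.Perm.mul_apply, ind_apply, hβ, hβ, ind_apply]
    exact (t.θ_smul y z).symm
  have hgi := ind_eq h2.1 hg hgπ
  have hc : g⁻¹ * t.τ g ∈ stS G P := mul_mem (inv_mem hg) (hst g hg)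
  have hci : ind h2.1 ⟨_, hc⟩ = π⁻¹ * (β * π * β⁻¹) := by
    have h3 : ind h2.1 ⟨g⁻¹ * t.τ g, hc⟩ = (ind h2.1 ⟨g, hg⟩)⁻¹ * ind h2.1 ⟨_, hst g hg⟩ := by
      rw [← map_inv, ← map_mul]; rfl
    rw [h3, hτ g hg, hgi]
  have hfx : ∀ y (hy : y ∈ stS G P), ind h2.1 ⟨y, hy⟩ = 1 ↔ y ∈ fxS G P := by
    intro y hy
    constructor
    · intro h d hd
      exact congrArg (fun f : Equiv.Perm P => ((f ⟨d, hd⟩ : P) : C)) h
    · intro h
      ext z
      exact h z z.2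
  have key := f1 hccp (H := stS G P) (N := fxS G P) hst (fxS_τ hQs) fxS_conj hc hg (one_mem _)
    ((hfx _ (mul_mem (inv_mem hc) (hst _ hc))).1 ?_) (by
      have : (g⁻¹ * t.τ g)⁻¹ * (1 * (g⁻¹ * t.τ g) * 1⁻¹) = 1 := by group
      rw [this]
      exact one_mem _)
  · rw [← hfx _ hc, hci] at key
    exact hπ1 key
  · have h3 : ind h2.1 ⟨(g⁻¹ * t.τ g)⁻¹ * t.τ (g⁻¹ * t.τ g), mul_mem (inv_mem hc) (hst _ hc)⟩ =
        (ind h2.1 ⟨_, hc⟩)⁻¹ * ind h2.1 ⟨_, hst _ hc⟩ := by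
      rw [← map_inv, ← map_mul]; rfl
    rw [h3, hτ _ hc, hci, hπ2]
    group

end Cfsg.Agent.H289.D4T
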