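import Cfsg.Agent.H289.Tri.ThreeB

/-!
# Residues of the building of type `D₄` (helper289, S4114, triality)

* `fano` : an isometry fixing two lines (in different points of a line) and a third point of the line fixes a line in
  this point;
* `eq_of_two` : two chambers in the same panels of different types; `exists_pr`, `pr_unique` : the projection in the
  residue of type `{a, b, c}` onto a panel.
-/

set_option autoImplicit false
set_option linter.unusedSectionVars false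

open scoped Pointwise

namespace Cfsg.Agent.H289.D4T

open CoxeterSystem Cfsg.Agent.ChevalleyStructure.CoxeterGeom Cfsg.Agent.Tits.Roots Cfsg.Agent.Nodes
  Cfsg.Agent.Tits.Core Cfsg.Agent.Tits.Core.Bldg Cfsg.Agent.Tits Cfsg.Agent.Tits.Exchange
open Cfsg.Agent.FixBN (Sys)
open Cfsg.Agent.FixOdd (Tw)
open Cfsg.Agent.H289.Tri

variable {W : Type*} [Group W] {cs : CoxeterSystem (TypeD.M 2) W} {C : Type*} {Δ : Bldg cs C}
  {G : Type*} [Group G] [MulAction G C] {l : ℕ} {a b c : Fin 4}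

theorem braid {a : Fin 4} (ha : a ≠ 1) : cs.wordProd [a, 1, a] = cs.wordProd [1, a, 1] := by
  have h1 := cs.simple_mul_simple_pow a 1
  rw [M_eq, if_neg ha, if_pos (Or.inr rfl)] at h1
  simp only [cs.wordProd_cons, cs.wordProd_nil, mul_one]
  have s1 : cs.simple 1 * cs.simple 1 = 1 := cs.simple_mul_simple_self 1
  have s2 : cs.simple a * cs.simple a = 1 := cs.simple_mul_simple_self a
  have h2 : cs.simple a * cs.simple 1 * (cs.simple a * cs.simple 1) * (cs.simple a * cs.simple 1) = 1 := by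
    rw [← h1, pow_succ, pow_succ, pow_one]
  calc cs.simple a * (cs.simple 1 * cs.simple a)
      = (cs.simple a * cs.simple 1 * (cs.simple a * cs.simple 1) * (cs.simple a * cs.simple 1)) *
        ((cs.simple 1)⁻¹ * (cs.simple a)⁻¹ * (cs.simple 1)⁻¹) := by group
    _ = _ := by rw [h2, one_mul, cs.inv_simple, cs.inv_simple, mul_assoc]

theorem fano {a : Fin 4} (ha : a ≠ 1) {ρ : C → C} (hρ : ∀ x y, Δ.δ (ρ x) (ρ y) = Δ.δ x y) {d0 d1 d2 e0 e1 : C}
    (h0 : Δ.δ e0 d0 = cs.simple a) (h01 : Δ.δ d0 d1 = cs.simple 1) (h1 : Δ.δ d1 e1 = cs.simple a)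
    (h02 : Δ.δ d0 d2 = cs.simple 1) (r0 : ρ e0 = e0) (r1 : ρ e1 = e1) (r2 : ρ d2 = d2) :
    ∃ e2, Δ.δ e2 d2 = cs.simple a ∧ ρ e2 = e2 := by
  have hw : ∀ i, cs.simple i = cs.wordProd [i] := fun i => (cs.wordProd_singleton i).symm
  rw [hw] at h0 h01 h1 h02
  have hred : ∀ a : Fin 4, a ≠ 1 → Red [a] ∧ Red [1] ∧ Red ([a] ++ [1]) ∧ Red ([1] ++ [a]) ∧
      Red (([a] ++ [1]) ++ [a]) ∧ Red (([1] ++ [a]) ++ [1]) := by decide
  obtain ⟨q1, q2, q3, q4, q5, q6⟩ := hred a ha
  -- the chamber `f`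
  have k1 := δ_word (δ_word h0 h01 q3 q1 q2) h1 q5 q3 q1
  have hb := braid (cs := cs) ha
  have k2 : Δ.δ e0 e1 = cs.wordProd [1] * cs.wordProd [a, 1] := by
    rw [← cs.wordProd_append, k1]
    exact hb
  have hl1 : cs.length (cs.wordProd [1] * cs.wordProd [a, 1]) =
      cs.length (cs.wordProd [1]) + cs.length (cs.wordProd [a, 1]) := by
    rw [← cs.wordProd_append]
    exact (length_word cs q6).trans (congrArg₂ (· + ·) (length_word cs q2) (length_word cs q3)).symm
  obtain ⟨f, f1, f2⟩ := Δ.exists_between k2 hl1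
  have hf : ρ f = f := Δ.between_unique hl1 (by rw [← f1, ← hρ e0 f, r0]) (by rw [← f2, ← hρ f e1, r1]) f1 f2
  -- the chamber `e2`
  have f3 : Δ.δ f e0 = cs.wordProd [1] := by
    rw [← hw] at f1 ⊢
    exact Δ.δ_symm_simple f1
  have k3 := δ_word (δ_word f3 h0 q4 q2 q1) h02 q6 q4 q2
  have k4 : Δ.δ f d2 = cs.wordProd [a, 1] * cs.wordProd [a] := by
    rw [← cs.wordProd_append, k3]
    exact hb.symm
  have hl2 : cs.length (cs.wordProd [a, 1] * cs.wordProd [a]) =
      cs.length (cs.wordProd [a, 1]) + cs.length (cs.wordProd [a]) := by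
    rw [← cs.wordProd_append]
    exact (length_word cs q5).trans (congrArg₂ (· + ·) (length_word cs q3) (length_word cs q1)).symm
  obtain ⟨e2, g1, g2⟩ := Δ.exists_between k4 hl2
  refine ⟨e2, by rw [hw]; exact g2, ?_⟩
  exact Δ.between_unique hl2 (by rw [← g1, ← hρ f e2, hf]) (by rw [← g2, ← hρ e2 d2, r2]) g1 g2

/-- `w ∈ W_J` fixes the coordinate `k ∉ J` -/
theorem eq_one_of_inter {J K : Set (Fin 4)} {i : Fin 4} (hJ : i ∉ J) (hK : K ⊆ {i}) {w : W} (h1 : w ∈ WJ cs J)
    (h2 : w ∈ WJ cs K) : w = 1 := by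
  have h := TypeD.isCartan 2
  have h3 := WJ_mono cs hK h2
  rcases (mem_WJ_singleton).1 h3 with h4 | h4
  · exact h4
  · exfalso
    rw [h4] at h1
    have h7 := RootComb.rep_apply_of_mem cs h h1 (Pi.single i 1) (k := i) hJ
    rw [rep_rf cs h] at h7
    have : ∀ a : Fin 4, rf a (Pi.single a 1) a ≠ (Pi.single a 1 : Fin 4 → ℤ) a := by decide
    exact this i h7

/-- a chamber in the `i`-panel and in a residue of a type not containing `i` -/
theorem eq_of_pan {i : Fin 4} {J : Set (Fin 4)} (hJ : i ∉ J) {x y : C} (h1 : y ∈ Δ.Pan i x) (h2 : y ∈ Δ.Res J x) :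
    y = x := by
  rw [Δ.Pan_eq_Res] at h1
  exact (Δ.eq_of_δ_eq_one (eq_one_of_inter hJ subset_rfl h2 h1)).symm

/-- **The projection** onto the panel `Pan a x`. -/
theorem exists_pr (hout : Out a b c) {x d : C} (hd : d ∈ Δ.Res {a, b, c} x) :
    ∃ y ∈ Δ.Pan a x, d ∈ Δ.Res {b, c} y := by
  have h := TypeD.isCartan 2
  have hd' := Δ.mem_Res_symm hd
  obtain ⟨v, hv, h1⟩ := mem_abc hout (Δ.mem_Res.1 hd')
  rcases h1 with h1 | h1
  · exact ⟨x, Δ.self_mem_Pan _ _, Δ.mem_Res_symm (by rw [mem_Res, h1]; exact hv)⟩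
  · have hl : cs.length (v * cs.simple a) = cs.length v + cs.length (cs.simple a) := by
      have h2 : cs.length v < cs.length (v * cs.simple a) := by
        rw [lt_iff' cs h]
        refine StabComb.nonneg_of_pos_apply (cs := cs) (h := h) (k := a) ⟨v, a, rfl⟩ ?_
        have h3 := RootComb.rep_apply_of_mem cs h hv (Pi.single a 1) (k := a) (by
          simp [hout.2.2.2.1, hout.2.2.2.2.1])
        change 0 < rep cs h v (Pi.single a 1) a
        rw [h3]
        simp
      have h3 := cs.length_mul_simple v a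
      rw [cs.length_simple]
      omega
    obtain ⟨q, hq1, hq2⟩ := Δ.exists_between h1 hl
    exact ⟨q, Or.inr (Δ.δ_symm_simple hq2), Δ.mem_Res_symm (by rw [mem_Res, hq1]; exact hv)⟩

theorem pr_unique (hout : Out a b c) {x y y' d : C} (h1 : y ∈ Δ.Pan a x) (h2 : y' ∈ Δ.Pan a x)
    (h3 : d ∈ Δ.Res {b, c} y) (h4 : d ∈ Δ.Res {b, c} y') : y' = y := by
  refine eq_of_pan (Δ := Δ) (i := a) (J := {b, c}) (by simp [hout.2.2.2.1, hout.2.2.2.2.1]) ?_ ?_
  · rw [Δ.Pan_eq_of_mem h1]; exact h2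
  · exact Δ.mem_Res_trans h3 (Δ.mem_Res_symm h4)

end Cfsg.Agent.H289.D4T
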