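import Cfsg.Agent.H289.D4T.Par
import Cfsg.Agent.H289.Tri.Main
import Cfsg.Agent.H460.FTypO
import Cfsg.Agent.H459.RgdRad
import Cfsg.Agent.KFacts.RgdFiltWitt

/-!
# `PΩ⁺₈(2)`, `PΩ⁺₈(3)`: triality does not satisfy `CCP` (helper289, S4114)

* `HasFBT` : typed root group datum with the Borel–Tits property; `hasFBT_plus` : `PΩ⁺₂ₘ(q)`;
* `no_triality` : `CCP` and a proper invariant residue: `σ ^ 2 = 1`;
* `exists_eng_fbt`, `exists_eng_o8` : the interface.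
-/

set_option autoImplicit false
set_option linter.unusedSectionVars false

open scoped Pointwise

namespace Cfsg.Agent.H289.D4T

open CoxeterSystem Cfsg.Agent.ChevalleyStructure.CoxeterGeom Cfsg.Agent.Tits.Roots Cfsg.Agent.Tits.Core
  Cfsg.Agent.Tits.RootComb Cfsg.Agent.Nodes Cfsg.Agent.Nodes.Comb Cfsg.Agent.Nodes.Reps Cfsg.Agent.Nodes.BNOf
  Cfsg.Agent.Nodes.BNOf.RGD
  Cfsg.Agent.FixBN Cfsg.Agent.Tits.OfBN Cfsg.Agent.Tits.OppRes Cfsg.Agent.LieExceptional.BNPairCore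
  Cfsg.Agent.OddHalf.Table.AutBldg Cfsg.Agent.OddHalf.Table.AutRGD Cfsg.Agent.OddHalf.Table.AutNorm
  Cfsg.Agent.Tits Cfsg.Agent.Nodes.RGDLib Cfsg.Agent.UGT.U2.FOne
open Cfsg.Agent.Tits.Core.Bldg Cfsg.Agent.H289.Tri Cfsg.Agent.H460.Engine Cfsg.Agent.H460.Typed
  Cfsg.Agent.H185.TypedTw
open Cfsg.Agent.KFacts.RgdCharP (BT)
open Cfsg.Agent.H459.Iface (FixR)
open Cfsg.Agent.H520 (CCP EL)

theorem comb4' : ∀ x0 x1 x2 x3 : Fin 4, (∀ i j, Mf (![x0, x1, x2, x3] i) (![x0, x1, x2, x3] j) = Mf i j) →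
    (∃ i, (![x0, x1, x2, x3] : Fin 4 → Fin 4) (![x0, x1, x2, x3] i) ≠ i) →
    Out 0 x0 (![x0, x1, x2, x3] x0) ∧ x1 = 1 ∧
      (![x0, x1, x2, x3] : Fin 4 → Fin 4) (![x0, x1, x2, x3] x0) = 0 := by
  decide

theorem comb' {f : Fin 4 → Fin 4} (hM : ∀ i j, TypeD.M 2 (f i) (f j) = TypeD.M 2 i j)
    (hne : ∃ i, f (f i) ≠ i) : Out 0 (f 0) (f (f 0)) ∧ f 1 = 1 ∧ f (f (f 0)) = 0 := by
  have hf : f = ![f 0, f 1, f 2, f 3] := by
    funext i; fin_cases i <;> rfl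
  have h1 := comb4' (f 0) (f 1) (f 2) (f 3)
  rw [← hf] at h1
  refine h1 (fun i j => ?_) hne
  have := hM i j
  rw [M_eq, M_eq] at this
  exact this

section

variable {W Y : Type*} [Group W] [Group Y]
  {cs : CoxeterSystem (TypeD.M 2) W} {A : Fin 4 → Fin 4 → ℤ} {h : IsCartan (TypeD.M 2) A} {l : ℕ}
  {T : Subgroup Y} {n : Fin 4 → Y} {X : (Fin 4 → ℤ) → Subgroup Y} [Finite W]

variable {R : RGD cs h l T n X} {hgen : B cs h T X ⊔ NN cs R.nsys = ⊤}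
  [hN : (((R.bnPair hgen).B ⊓ (R.bnPair hgen).N).subgroupOf (R.bnPair hgen).N).Normal]
  (cs' : CoxeterSystem (TypeD.M 2) (WP (R.bnPair hgen)))
  (hcs : ∀ i, cs'.simple i = QuotientGroup.mk
    (⟨(eS R hgen i : Y), (R.bnPair hgen).subset (eS R hgen i).2⟩ : (R.bnPair hgen).N))

/-- **`CCP` and triality: no proper invariant residue.** -/
theorem no_triality [Fact l.Prime] [Finite Y] (hcore : (B cs h T X).normalCore = ⊥)
    {Q : Fin 4 → ℕ} (hn : ∀ i, LNode (R.bnPair hgen) (Sup X (Pos cs h)) (n i) (Q i))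
    (hQ : (∀ i, Q i = 2) ∨ (∀ i, Q i = 3))
    {t : FixOdd.Tw (Bl R hgen cs' hcs) Y} (hccp : CCP t.τ) {J : Set (Fin 4)} (hJ : J ≠ Set.univ)
    (hst : ∀ i ∈ J, t.σ i ∈ J) {y : Y ⧸ (R.bnPair hgen).B} (hy : t.θ y ∈ (Bl R hgen cs' hcs).Res J y) (i : Fin 4) :
    t.σ (t.σ i) = i := by
  by_contra hi
  have hW : Finite (WP (R.bnPair hgen)) := inferInstance
  have hC : Cox cs := inferInstance
  have hC' : Cox cs' := inferInstance
  have S := Sy R hgen cs' hcs hcore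
  have hM : ∀ i j, TypeD.M 2 (t.σ i) (t.σ j) = TypeD.M 2 i j := by
    intro i j
    rw [← LieRecognition.CoxForm.orderOf_eq cs', ← LieRecognition.CoxForm.orderOf_eq cs', ← t.φ_simple,
      ← t.φ_simple, ← map_mul]
    exact orderOf_injective t.φ.toMonoidHom t.φ.injective _
  obtain ⟨hout, h1, h3⟩ := comb' (f := t.σ) hM ⟨i, hi⟩
  have D : RotD t 0 (t.σ 0) (t.σ (t.σ 0)) := ⟨hout, h1, rfl, rfl, h3⟩
  have hcard : ∀ i d, Nat.card ((Bl R hgen cs' hcs).Pan i d) = Q i + 1 := fun i d =>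
    H460.PanL.card_pan (SplitRGD.split_of_rgd Fact.out R hgen hcore) (eS R hgen) cs' hcs (hn i) d
  refine abs_false S D hccp (dt R hgen cs' hcs) (t2o R hgen cs' hcs hcore) (t5 R hgen cs' hcs hcore) ?_ hJ hst hy
  rcases hQ with h | h
  · exact Or.inl fun i d => by rw [hcard, h]
  · exact Or.inr fun i d => by rw [hcard, h]

end

/-- Typed root group datum with the Borel–Tits property. -/
def HasFBT (p : ℕ) (K : Type*) [Group K] {l : ℕ} (M : CoxeterMatrix (Fin l)) (Q : Fin l → ℕ) : Prop :=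
  ∃ (A : Fin l → Fin l → ℤ) (h : IsCartan M A) (T : Subgroup K) (n : Fin l → K)
    (X : (Fin l → ℤ) → Subgroup K) (_ : Finite M.Group) (R : RGD M.toCoxeterSystem h p T n X)
    (hgen : RGD.B M.toCoxeterSystem h T X ⊔ NN M.toCoxeterSystem R.nsys = ⊤), Group.IsSolvable T ∧
      (∀ i, FNode (R.bnPair hgen) (RGD.Sup X (RGD.Pos M.toCoxeterSystem h)) (n i) (Q i)) ∧
      BT M.toCoxeterSystem h p T X

theorem HasFBT.typed {p : ℕ} {K : Type*} [Group K] {l : ℕ} {M : CoxeterMatrix (Fin l)} {Q : Fin l → ℕ}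
    (H : HasFBT p K M Q) : HasFTyped p K M Q := by
  obtain ⟨A, h, T, n, X, hW, R, hgen, hT, hN, -⟩ := H
  exact ⟨A, h, T, n, X, hW, R, hgen, hT, hN⟩

theorem not_isPGroup {K : Type*} [Group K] [Finite K] {r : ℕ} [Fact r.Prime] {l : ℕ} (hl : 1 ≤ l)
    {M : CoxeterMatrix (Fin l)} {A : Fin l → Fin l → ℤ} {h : IsCartan M A} {T : Subgroup K} {n : Fin l → K}
    {X : (Fin l → ℤ) → Subgroup K} [Finite M.Group] (R : RGD M.toCoxeterSystem h r T n X)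
    (hgen : RGD.B M.toCoxeterSystem h T X ⊔ NN M.toCoxeterSystem R.nsys = ⊤)
    (hcore : (R.bnPair hgen).B.normalCore = ⊥) : ¬ IsPGroup r K := by
  intro hG
  have hsplit := SplitRGD.split_of_rgd Fact.out R hgen hcore
  obtain ⟨U', hU'⟩ := H459.RgdRad.exists_sylow hsplit
  have hN : Subgroup.normalizer ((U' : Subgroup K) : Set K) = (R.bnPair hgen).B := by
    rw [hU']; exact hsplit.normalizer_eq
  have h1 : (⊤ : Subgroup K) = (U' : Subgroup K) := by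
    have h2 : IsPGroup r (⊤ : Subgroup K) := hG.of_equiv Subgroup.topEquiv.symm
    exact U'.is_maximal' h2 le_top
  refine Cfsg.Agent.Schreier.BNSch.not_mem_B (R.bnPair hgen) (H459.RgdRad.mem_S R hgen (i := ⟨0, hl⟩)) ?_
  rw [← hN]
  refine Subgroup.le_normalizer ?_
  rw [← h1]
  trivial

/-- **Borel–Tits for automorphisms**: a proper invariant residue. -/
theorem exists_engBT {K : Type*} [Group K] [Finite K] [IsSimpleGroup K] {r : ℕ} [Fact r.Prime] {l : ℕ} (hl : 1 ≤ l)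
    {M : CoxeterMatrix (Fin l)} {Q : Fin l → ℕ} (H : HasFBT r K M Q) :
    ∃ E : Eng r K M Q, (∀ i, FNode E.P E.U (E.e i : K) (Q i)) ∧
      ∀ t : FixOdd.Tw E.Δ K, FixR r t.τ → ∃ J : Set (Fin l), J ≠ Set.univ ∧ (∀ i ∈ J, t.σ i ∈ J) ∧
        ∃ y, t.θ y ∈ E.Δ.Res J y := by
  obtain ⟨A, h, T, n, X, hW, R, hgen, hT, hn, hBT⟩ := H
  have hne : (R.bnPair hgen).S.Nonempty := ⟨n ⟨0, hl⟩, ⟨0, hl⟩, rfl⟩
  have hcore := Cfsg.Agent.Tits.OfBN.normalCore_eq_bot (R.bnPair hgen) hne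
  obtain ⟨hN, cs', hcs, hWP, hS⟩ := OddHalf.Table.AutRGD.exists_setup R hgen hcore
  refine ⟨⟨R.bnPair hgen, _, hS, hN, OddHalf.Table.AutRGD.eS R hgen, cs', hcs, hWP, sol_B R hgen hT hS, hcore,
    fun i => (hn i).lnode⟩, hn, fun t ht => ?_⟩
  have hns : ∀ V : Subgroup K, V ≠ ⊥ → V ≠ ⊤ → Subgroup.normalizer (V : Set K) ≠ ⊤ := by
    intro V h1 h2 h3
    rcases (Subgroup.normalizer_eq_top_iff.1 h3).eq_bot_or_eq_top with h4 | h4
    · exact h1 h4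
    · exact h2 h4
  obtain ⟨M₀, g₀, h1, h2, h3⟩ := H459.RgdRad.exists_par R hgen hBT hns (not_isPGroup hl R hgen hcore) ht
  have hC' : Cox cs' := inferInstance
  obtain ⟨J, hJ, hst, hy⟩ := exists_res (eS R hgen) cs' hcs h1 h2 h3
  exact ⟨J, hJ, hst, _, hy⟩

/-- **The interface for `|F| = 2, 3`.** -/
theorem exists_eng_fbt {K : Type*} [Group K] [Finite K] [IsSimpleGroup K] {r : ℕ} [Fact r.Prime] {Q : Fin 4 → ℕ}
    (H : HasFBT r K (TypeD.M 2) Q) (hQ : (∀ i, Q i = 2) ∨ (∀ i, Q i = 3)) :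
    ∃ E : Eng r K (TypeD.M 2) Q, (∀ i, FNode E.P E.U (E.e i : K) (Q i)) ∧
      (∀ t : FixOdd.Tw E.Δ K, CCP t.τ → ∀ J : Set (Fin 4), J ≠ Set.univ → (∀ i ∈ J, t.σ i ∈ J) →
        (∃ y, t.θ y ∈ E.Δ.Res J y) → ∀ i, t.σ (t.σ i) = i) ∧
      ∀ t : FixOdd.Tw E.Δ K, FixR r t.τ → ∃ J : Set (Fin 4), J ≠ Set.univ ∧ (∀ i ∈ J, t.σ i ∈ J) ∧
        ∃ y, t.θ y ∈ E.Δ.Res J y := by
  obtain ⟨A, h, T, n, X, hW, R, hgen, hT, hn, hBT⟩ := H
  have hne : (R.bnPair hgen).S.Nonempty := ⟨n 0, ⟨0, rfl⟩⟩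
  have hcore := Cfsg.Agent.Tits.OfBN.normalCore_eq_bot (R.bnPair hgen) hne
  obtain ⟨hN, cs', hcs, hWP, hS⟩ := OddHalf.Table.AutRGD.exists_setup R hgen hcore
  refine ⟨⟨R.bnPair hgen, _, hS, hN, OddHalf.Table.AutRGD.eS R hgen, cs', hcs, hWP, sol_B R hgen hT hS, hcore,
    fun i => (hn i).lnode⟩, hn, ?_, ?_⟩
  · rintro t ht J hJ hst ⟨y, hy⟩ i
    exact no_triality cs' hcs hcore (fun i => (hn i).lnode) hQ ht hJ hst hy i
  · intro t ht
    have hns : ∀ V : Subgroup K, V ≠ ⊥ → V ≠ ⊤ → Subgroup.normalizer (V : Set K) ≠ ⊤ := by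
      intro V h1 h2 h3
      rcases (Subgroup.normalizer_eq_top_iff.1 h3).eq_bot_or_eq_top with h4 | h4
      · exact h1 h4
      · exact h2 h4
    obtain ⟨M₀, g₀, h1, h2, h3⟩ := H459.RgdRad.exists_par R hgen hBT hns (not_isPGroup (by norm_num) R hgen hcore) ht
    have hC' : Cox cs' := inferInstance
    obtain ⟨J, hJ, hst, hy⟩ := exists_res (eS R hgen) cs' hcs h1 h2 h3
    exact ⟨J, hJ, hst, _, hy⟩

/-- the interface in terms of `EL` -/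
theorem fixR_of_not_el {K : Type*} [Group K] {r : ℕ} {x : MulAut K} (h : ¬ EL r x) : FixR r x := by
  unfold EL at h
  push Not at h
  obtain ⟨R, h1, h2, h3⟩ := h
  exact ⟨R, h3, h1, h2⟩

end Cfsg.Agent.H289.D4T
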