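import Cfsg.Agent.H289.D4T.Main
import Cfsg.Agent.FixBN.WittNodeD

/-!
# `PΩ⁺₂ₘ(q)`: typed root group data with the Borel–Tits property (helper289, S4114)

* `hasFBT_plus`; `exists_eng_o8` : `PΩ⁺₈(2)`, `PΩ⁺₈(3)`: `CCP` and not elliptic ⇒ the square of the type permutation is
  trivial.
-/

set_option autoImplicit false

namespace Cfsg.Agent.H289.D4T

open QuadraticMap
open Cfsg Cfsg.Agent.LieClassical Cfsg.Agent.LieClassical.OrthCore Cfsg.Agent.LieClassical.OrthTrans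
open Cfsg.Agent.LieClassical.OrthSimple Cfsg.Agent.LieClassical.OrthFinite Cfsg.Agent.LieClassical.OrthForms
open Cfsg.Agent.ChevalleyStructure.CoxeterGeom Cfsg.Agent.Tits.Roots Cfsg.Agent.Nodes.TypeC
open Cfsg.Agent.Nodes.Comb Cfsg.Agent.Nodes.Reps Cfsg.Agent.Nodes.WittRoot Cfsg.Agent.Nodes.BNOf
open Cfsg.Agent.Nodes.WittRGD Cfsg.Agent.Nodes.RGDLib Cfsg.Agent.Nodes.WittModel Cfsg.Agent.Nodes.WittU
open Cfsg.Agent.TitsThree Cfsg.Agent.TitsThree.Siegel Cfsg.Agent.TitsThree.SiegelGen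
  Cfsg.Agent.TitsThree.WittFrame Cfsg.Agent.TitsThree.WBridge Cfsg.Agent.TitsThree.WittWeyl
  Cfsg.Agent.TitsThree.FrameCN Cfsg.Agent.TitsThree.KSideO
open Cfsg.Agent.FixBN.WittNodeA Cfsg.Agent.FixBN.WittNodeB
open Cfsg.Agent.H185.TypedTw (FNode HasFTyped)
open Cfsg.Agent.H460.Typed Cfsg.Agent.H460.FTypWitt Cfsg.Agent.H460.Engine
open Cfsg.Agent.Nodes.WittAll (AmbT)
open Cfsg.Agent.Nodes.WittInst (ambT_O amb_O_of_two fixp_minus)
open Cfsg.Agent.Nodes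
open Cfsg.Agent.Nodes.WittRGD (Tor mem_Tor b_ne_zero)
open Cfsg.Agent.Nodes.WittInst (wplus adm_plus amb_plus XD rgD_le G1D_eq_top ker_toPOmega rgdD_model)
open Cfsg.Agent.FixBN.WittNodeD (eq_one_of_comm mem_B_of_eq')
open Cfsg.Agent.H459.Iface (FixR)
open Cfsg.Agent.H520 (CCP EL)

variable {ι : Type} [Fintype ι] [DecidableEq ι] {F : Type} [Field F] {Q : QuadraticForm F (ι → F)}

theorem hasFBT_D [Finite F] (hG : Good Q) {p : ℕ} [Fact p.Prime] [CharP F p] {m : ℕ}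
    (W : WFrame (PO Q) (m + 2)) (hA : Amb (toFrame W) (E Q)) (h0 : ∀ p : (toFrame W).Adm, p = 1) (hV : W.V0 = ⊥) :
    HasFBT p (Cfsg.POmega F ⇑Q) (TypeD.M m) (fun _ => Nat.card F) := by
  have hW : Finite (TypeD.M m).Group := TypeD.finite_W (TypeD.M m).toCoxeterSystem
  have hfin : Finite ((ι → F) ≃ₗ[F] (ι → F)) :=
    Finite.of_injective (fun g : (ι → F) ≃ₗ[F] (ι → F) => (g : (ι → F) → (ι → F))) DFunLike.coe_injective
  have hfin' : Finite (Cfsg.POmega F ⇑Q) := Finite.of_surjective _ (toPOmega_surjective hG)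
  have R1 := rgd_restrict (WittAll.rgdD (p := p) hA h0 (TypeD.M m).toCoxeterSystem) (E Q) (fun x _ => rgD_le W hA x)
    (fun i => WittRGDD.nn_mem hA i)
  have R2 := rgdD_model W hG hA h0 (p := p) (TypeD.M m).toCoxeterSystem
  have hX := G1D_eq_top W (toPOmega hG) (toPOmega_surjective hG) h0 (TypeD.M m).toCoxeterSystem
  have hgen := rgd_gen_of_G1 R2 hX
  have hc : ∀ i j : Fin (m + 2), Nodes.TypeD.M m i j ≤ 3 := by
    intro i j
    show (if i = j then 1 else if Nodes.TypeD.Adj i j ∨ Nodes.TypeD.Adj j i then 3 else 2) ≤ 3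
    split_ifs <;> norm_num
  have hF := (Cfsg.Agent.KFacts.RgdFilt.intComm_of_sl R2 (Cfsg.Agent.KFacts.RgdFiltWitt.sl_of_ne
    (fun i j h => by have := hc i j; omega) (fun i j h => by have := hc i j; omega))).filt (R := R2)
  refine ⟨_, _, _, _, _, hW, R2, hgen, ?_, fun i => (?_ : TypedAt R2 i (Nat.card F)).lNode hgen,
    fun K hK h1 => Cfsg.Agent.KFacts.RgdFilt.borel_tits_of_filt hF hX hK h1⟩
  · refine Group.isSolvable_of_comm ?_
    rintro ⟨_, g, hg, rfl⟩ ⟨_, k, hk, rfl⟩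
    apply Subtype.ext
    show toPOmega hG g * toPOmega hG k = toPOmega hG k * toPOmega hG g
    rw [← map_mul, ← map_mul]
    exact congrArg _ (Subtype.ext (Cfsg.Agent.FixBN.WittNodeC.comm_Tor W hA 0
      (by rw [hV, Submodule.span_zero_singleton])
      (Subgroup.mem_subgroupOf.1 hg) (Subgroup.mem_subgroupOf.1 hk)))
  · have hne : ((i, true) : Fin (m + 2) × Bool).1 ≠ (TypeD.nx i).1 := TypeD.ok_nx i
    have hmem : ∀ {u}, u ∈ XD W (toPOmega hG) (sr i) ↔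
        ∃ a : F, u = toPOmega hG ⟨(toFrame W).X (i, true) (TypeD.nx i) a, hA.X_mem _ _ _⟩ := by
      intro u
      constructor
      · rintro ⟨g, hg, rfl⟩
        have h1 : (g : (ι → F) ≃ₗ[F] (ι → F)) ∈ WittRGDD.rg (toFrame W) (sr i) := hg
        rw [WittRGDD.rg_sr] at h1
        obtain ⟨a, ha⟩ := h1
        exact ⟨a, congrArg _ (Subtype.ext ha)⟩
      · rintro ⟨a, rfl⟩
        refine ⟨_, ?_, rfl⟩
        show (toFrame W).X (i, true) (TypeD.nx i) a ∈ WittRGDD.rg (toFrame W) (sr i)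
        rw [WittRGDD.rg_sr]
        exact ⟨a, rfl⟩
    refine ⟨F, inferInstance, inferInstance,
      fun a => toPOmega hG ⟨(toFrame W).X (i, true) (TypeD.nx i) a, hA.X_mem _ _ _⟩, rfl, fun a b => ?_,
      fun a => hmem.2 ⟨a, rfl⟩, fun u hu => hmem.1 hu, fun a ha => ?_, fun a ha => ?_⟩
    · rw [← map_mul]
      exact congrArg _ (Subtype.ext ((toFrame W).X_add _ _ _ _))
    · have h3 := center_of_toPOmega hG ha
      have h4 := eq_one_of_comm R1 i (x := ⟨(toFrame W).X (i, true) (TypeD.nx i) a, hA.X_mem _ _ _⟩) (by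
        show (toFrame W).X (i, true) (TypeD.nx i) a ∈ WittRGDD.rg (toFrame W) (sr i)
        rw [WittRGDD.rg_sr]
        exact ⟨a, rfl⟩) (Subgroup.mem_center_iff.1 h3 _)
      have h5 : (toFrame W).X (i, true) (TypeD.nx i) a = 1 := congrArg Subtype.val h4
      have h6 := X_apply_neg (toFrame W) hne a
      rw [h5] at h6
      have h7 : a • (toFrame W).b (i, true) = 0 := by
        have h8 : (toFrame W).b (neg (TypeD.nx i)) = (toFrame W).b (neg (TypeD.nx i)) + a • (toFrame W).b (i, true) := h6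
        exact (add_eq_left.1 h8.symm)
      exact (smul_eq_zero.1 h7).resolve_right (b_ne_zero _)
    · refine mem_B_of_eq' R2 i (m := toPOmega hG ⟨nX (toFrame W) (i, true) (TypeD.nx i) a⁻¹,
        WittRGDD.nX_mem hA _ _ _⟩) (z := toPOmega hG ⟨(toFrame W).X (i, true) (TypeD.nx i) (-a⁻¹), hA.X_mem _ _ _⟩)
        ?_ ?_ (hmem.2 ⟨_, rfl⟩)
      · rw [← map_inv, ← map_mul, ← map_mul, ← map_mul, ← map_mul]
        exact congrArg _ (Subtype.ext (conj_X_eq (toFrame W) hne ha))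
      · rw [← map_inv, ← map_mul]
        refine ⟨_, ?_, rfl⟩
        show (WittRGDD.nn (toFrame W) i)⁻¹ * nX (toFrame W) (i, true) (TypeD.nx i) a⁻¹ ∈ Tor (toFrame W) (E Q)
        exact ⟨mul_mem (inv_mem (WittRGDD.nn_mem hA i)) (WittRGDD.nX_mem hA _ _ _),
          (((WittRGDD.mono_nn i).inv (TypeD.sg_sg i)).mul (WittRGDD.mono_nX' i (inv_ne_zero ha))).congr
            fun x => TypeD.sg_sg i x⟩

/-- **`PΩ⁺_{2m}(q)`**, type `D_m`, `m = k + 2`. -/
theorem hasFBT_plus {F : Type} [Field F] [Finite F] {p : ℕ} [Fact p.Prime] [CharP F p] {m : ℕ} (hm : 1 ≤ m) :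
    HasFBT p (Cfsg.POmega F (Cfsg.quadFormPlus (m + 2) F)) (TypeD.M m) (fun _ => Nat.card F) := by
  rw [← coe_plusForm]
  have hG : Good (plusForm (m + 2) F) := by
    apply good_of_finite (nondeg_plusForm (m + 2) F)
    rw [Module.finrank_fintype_fun_eq_card, Fintype.card_sum, Fintype.card_fin]
    omega
  exact hasFBT_D hG (wplus (m + 2) F) (amb_plus (m + 2)) (adm_plus (m + 2)) rfl

/-- **`PΩ⁺₈(2)`, `PΩ⁺₈(3)`**: `CCP`, a proper invariant residue or not elliptic: `σ ^ 2 = 1`. -/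
theorem exists_eng_o8 {F : Type} [Field F] [Finite F] {r : ℕ} [Fact r.Prime] [CharP F r]
    [Finite (Cfsg.POmega F (Cfsg.quadFormPlus 4 F))] [IsSimpleGroup (Cfsg.POmega F (Cfsg.quadFormPlus 4 F))]
    (hF : Nat.card F = 2 ∨ Nat.card F = 3) :
    ∃ E : Eng r (Cfsg.POmega F (Cfsg.quadFormPlus 4 F)) (TypeD.M 2) (fun _ => Nat.card F),
      (∀ i, FNode E.P E.U (E.e i : Cfsg.POmega F (Cfsg.quadFormPlus 4 F)) (Nat.card F)) ∧
      (∀ t : FixOdd.Tw E.Δ (Cfsg.POmega F (Cfsg.quadFormPlus 4 F)), CCP t.τ → ∀ J : Set (Fin 4), J ≠ Set.univ →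
        (∀ i ∈ J, t.σ i ∈ J) → (∃ y, t.θ y ∈ E.Δ.Res J y) → ∀ i, t.σ (t.σ i) = i) ∧
      (∀ t : FixOdd.Tw E.Δ (Cfsg.POmega F (Cfsg.quadFormPlus 4 F)), FixR r t.τ →
        ∃ J : Set (Fin 4), J ≠ Set.univ ∧ (∀ i ∈ J, t.σ i ∈ J) ∧ ∃ y, t.θ y ∈ E.Δ.Res J y) ∧
      ∀ t : FixOdd.Tw E.Δ (Cfsg.POmega F (Cfsg.quadFormPlus 4 F)), CCP t.τ → ¬ EL r t.τ → ∀ i, t.σ (t.σ i) = i := by
  obtain ⟨E, h1, h2, h3⟩ := exists_eng_fbt (hasFBT_plus (F := F) (p := r) (m := 2) (by norm_num)) (by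
    rcases hF with h | h
    · exact Or.inl fun _ => h
    · exact Or.inr fun _ => h)
  refine ⟨E, h1, h2, h3, fun t ht hel => ?_⟩
  obtain ⟨J, hJ, hst, hy⟩ := h3 t (fixR_of_not_el hel)
  exact h2 t ht J hJ hst hy

end Cfsg.Agent.H289.D4T
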