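import Mathlib

/-!
# Permutations of three and four points (helper289, S4114, triality)

* `Ev k` : `k ^ 3 = 1` or `k` is an involution without fixed points;
* `exists_of_two` : a subgroup transitive on the pairs, of a set of three (four) points, contains all (all `Ev`)
  permutations;
* `t4`, `t3`, `c4`, `c3` : the computations.
-/

set_option autoImplicit false

namespace Cfsg.Agent.H289.D4T

open Equiv Equiv.Perm

/-- even permutations of a set of four points -/
def Ev {α : Type*} (k : Perm α) : Prop := k * k * k = 1 ∨ (k * k = 1 ∧ ∀ i, k i ≠ i)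

theorem sign_of_ev : ∀ k : Perm (Fin 4), Ev k → Perm.sign k = 1 := by
  unfold Ev
  decide

set_option maxRecDepth 100000 in
theorem t4a : ∀ k : Perm (Fin 4), Ev k → k * k * k = 1 ∨
    (c[(0 : Fin 4), 1, 2] * c[(0 : Fin 4), 1, 2] * k * (c[(0 : Fin 4), 1, 2] * c[(0 : Fin 4), 1, 2])⁻¹) *
      (c[(0 : Fin 4), 1, 2] * k * (c[(0 : Fin 4), 1, 2])⁻¹) * k = 1 := by
  unfold Ev
  decide

set_option maxRecDepth 100000 in
theorem t4b : ∀ b : Perm (Fin 4), ∃ k : Perm (Fin 4), Ev k ∧ k ≠ 1 ∧ b * k = k * b := by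
  unfold Ev
  decide

set_option maxRecDepth 100000 in
theorem t3 : ∀ b : Perm (Fin 3), (∃ i, b i = i ∧ ∀ j, b j = j → j = i) ∨
    ∃ k : Perm (Fin 3), k ≠ 1 ∧ b * k = k * b ∧ k * k * k = 1 := by
  decide

set_option maxRecDepth 100000 in
theorem c3 : ∀ b : Perm (Fin 3), (∀ i, b i ≠ i) → ∃ g : Perm (Fin 3), g⁻¹ * (b * g * b⁻¹) ≠ 1 ∧
    b * (g⁻¹ * (b * g * b⁻¹)) = g⁻¹ * (b * g * b⁻¹) * b := by
  decide

set_option maxRecDepth 100000 in
theorem c4 : ∀ b : Perm (Fin 4), (∀ i, b i ≠ i) → ∃ g : Perm (Fin 4), Ev g ∧ g⁻¹ * (b * g * b⁻¹) ≠ 1 ∧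
    b * (g⁻¹ * (b * g * b⁻¹)) = g⁻¹ * (b * g * b⁻¹) * b := by
  unfold Ev
  decide

/-! ### Transport -/

section Transport

variable {α β : Type*}

theorem ev_congr (e : α ≃ β) {k : Perm α} : Ev (e.permCongr k) ↔ Ev k := by
  have h1 : ∀ a b : Perm α, e.permCongr a * e.permCongr b = e.permCongr (a * b) := fun a b =>
    (map_mul (Equiv.permCongrHom e) a b).symm
  have h2 : e.permCongr (1 : Perm α) = 1 := map_one (Equiv.permCongrHom e)
  unfold Ev
  rw [h1, h1, ← h2, e.permCongr.injective.eq_iff, e.permCongr.injective.eq_iff]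
  constructor
  · rintro (h | ⟨h, h'⟩)
    · exact Or.inl h
    · refine Or.inr ⟨h, fun i hi => h' (e i) ?_⟩
      rw [Equiv.permCongr_apply, e.symm_apply_apply, hi]
  · rintro (h | ⟨h, h'⟩)
    · exact Or.inl h
    · refine Or.inr ⟨h, fun i hi => h' (e.symm i) ?_⟩
      rw [Equiv.permCongr_apply] at hi
      apply e.injective
      rw [hi, e.apply_symm_apply]

theorem sign_ev [Fintype α] [DecidableEq α] (hα : Nat.card α = 4) {k : Perm α} (hk : Ev k) : Perm.sign k = 1 := by
  rw [Nat.card_eq_fintype_card] at hα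
  rw [← Perm.sign_permCongr (Fintype.equivFinOfCardEq hα) k]
  exact sign_of_ev _ ((ev_congr _).2 hk)

/-- `k` times two conjugates of `k` -/
theorem t4a' [Finite α] (hα : Nat.card α = 4) {k : Perm α} (hk : Ev k) : ∃ x y : Perm α, Ev x ∧ Ev y ∧
    y * k * y⁻¹ * (x * k * x⁻¹) * k = 1 := by
  classical
  have : Fintype α := Fintype.ofFinite α
  rw [Nat.card_eq_fintype_card] at hα
  set e := Fintype.equivFinOfCardEq hα
  rcases t4a _ ((ev_congr e).2 hk) with h | h
  · refine ⟨1, 1, Or.inl (by simp), Or.inl (by simp), ?_⟩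
    have h2 : Equiv.permCongrHom e (k * k * k) = Equiv.permCongrHom e 1 := by
      rw [map_mul, map_mul, map_one]; exact h
    have := (Equiv.permCongrHom e).injective h2
    simpa using this
  · set r : Perm (Fin 4) := c[(0 : Fin 4), 1, 2] with hr
    have hr3 : r * r * r = 1 := by rw [hr]; decide
    have e1 : Ev r := Or.inl hr3
    have e2 : Ev (r * r) := Or.inl (by
      calc r * r * (r * r) * (r * r) = (r * r * r) * (r * r * r) := by group
        _ = 1 := by rw [hr3, one_mul])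
    set s := (Equiv.permCongrHom e).symm r with hs
    have hs1 : Equiv.permCongrHom e s = r := (Equiv.permCongrHom e).apply_symm_apply r
    refine ⟨s, s * s, (ev_congr e).1 (by
      change Ev (Equiv.permCongrHom e s); rw [hs1]; exact e1), (ev_congr e).1 (by
      change Ev (Equiv.permCongrHom e (s * s)); rw [map_mul, hs1]; exact e2), ?_⟩
    apply (Equiv.permCongrHom e).injective
    simp only [map_mul, map_inv, map_one, hs1]
    exact h

theorem t4b' [Finite α] (hα : Nat.card α = 4) (b : Perm α) : ∃ k : Perm α, Ev k ∧ k ≠ 1 ∧ b * k = k * b := by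
  classical
  have : Fintype α := Fintype.ofFinite α
  rw [Nat.card_eq_fintype_card] at hα
  set e := Fintype.equivFinOfCardEq hα
  obtain ⟨k, h1, h2, h3⟩ := t4b (Equiv.permCongrHom e b)
  obtain ⟨k, rfl⟩ := (Equiv.permCongrHom e).surjective k
  refine ⟨k, (ev_congr e).1 h1, fun h => h2 (by rw [h, map_one]), ?_⟩
  apply (Equiv.permCongrHom e).injective
  rw [map_mul, map_mul]
  exact h3

theorem t3' [Finite α] (hα : Nat.card α = 3) (b : Perm α) : (∃ i, b i = i ∧ ∀ j, b j = j → j = i) ∨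
    ∃ k : Perm α, k ≠ 1 ∧ b * k = k * b ∧ k * k * k = 1 := by
  classical
  have : Fintype α := Fintype.ofFinite α
  rw [Nat.card_eq_fintype_card] at hα
  set e := Fintype.equivFinOfCardEq hα
  have hap : ∀ i, (Equiv.permCongrHom e b) (e i) = e (b i) := fun i => by
    change e (b (e.symm (e i))) = _
    rw [e.symm_apply_apply]
  rcases t3 (Equiv.permCongrHom e b) with ⟨i, h1, h2⟩ | ⟨k, h1, h2, h3⟩
  · left
    obtain ⟨i, rfl⟩ := e.surjective i
    refine ⟨i, e.injective (by rw [← hap, h1]), fun j hj => e.injective (h2 _ (by rw [hap, hj]))⟩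
  · right
    obtain ⟨k, rfl⟩ := (Equiv.permCongrHom e).surjective k
    refine ⟨k, fun h => h1 (by rw [h, map_one]), ?_, ?_⟩
    · apply (Equiv.permCongrHom e).injective
      rw [map_mul, map_mul]
      exact h2
    · apply (Equiv.permCongrHom e).injective
      rw [map_mul, map_mul, map_one]
      exact h3

theorem c3' [Finite α] (hα : Nat.card α = 3) (b : Perm α) (hb : ∀ i, b i ≠ i) :
    ∃ g : Perm α, g⁻¹ * (b * g * b⁻¹) ≠ 1 ∧ b * (g⁻¹ * (b * g * b⁻¹)) = g⁻¹ * (b * g * b⁻¹) * b := by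
  classical
  have : Fintype α := Fintype.ofFinite α
  rw [Nat.card_eq_fintype_card] at hα
  set e := Fintype.equivFinOfCardEq hα
  obtain ⟨g, h1, h2⟩ := c3 (Equiv.permCongrHom e b) (fun i h => hb (e.symm i) (e.injective (by
    rw [e.apply_symm_apply]; exact h)))
  obtain ⟨g, rfl⟩ := (Equiv.permCongrHom e).surjective g
  simp only [← map_mul, ← map_inv] at h1 h2
  exact ⟨g, fun h => h1 (by rw [h, map_one]), (Equiv.permCongrHom e).injective h2⟩

theorem c4' [Finite α] (hα : Nat.card α = 4) (b : Perm α) (hb : ∀ i, b i ≠ i) :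
    ∃ g : Perm α, Ev g ∧ g⁻¹ * (b * g * b⁻¹) ≠ 1 ∧ b * (g⁻¹ * (b * g * b⁻¹)) = g⁻¹ * (b * g * b⁻¹) * b := by
  classical
  have : Fintype α := Fintype.ofFinite α
  rw [Nat.card_eq_fintype_card] at hα
  set e := Fintype.equivFinOfCardEq hα
  obtain ⟨g, h0, h1, h2⟩ := c4 (Equiv.permCongrHom e b) (fun i h => hb (e.symm i) (e.injective (by
    rw [e.apply_symm_apply]; exact h)))
  obtain ⟨g, rfl⟩ := (Equiv.permCongrHom e).surjective g
  simp only [← map_mul, ← map_inv] at h1 h2
  exact ⟨g, (ev_congr e).1 h0, fun h => h1 (by rw [h, map_one]), (Equiv.permCongrHom e).injective h2⟩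

end Transport

/-! ### Transitive groups -/

section Two

variable {C G : Type*} [Group G] [MulAction G C]

/-- the stabilisers (in `H`) of the points of `P` are transitive on the other points -/
def T2 (H : Subgroup G) (P : Set C) : Prop :=
  (∀ h ∈ H, ∀ z ∈ P, h • z ∈ P) ∧
    ∀ c ∈ P, ∀ d ∈ P, ∀ e ∈ P, d ≠ c → e ≠ c → ∃ h ∈ H, h • c = c ∧ h • d = e

theorem T2.pair {H : Subgroup G} {P : Set C} (h : T2 H P) (h3 : 3 ≤ Nat.card P) [Finite P] {x y x' y' : C}
    (hx : x ∈ P) (hy : y ∈ P) (hx' : x' ∈ P) (hy' : y' ∈ P) (hxy : x ≠ y) (hxy' : x' ≠ y') :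
    ∃ g ∈ H, g • x = x' ∧ g • y = y' := by
  classical
  obtain ⟨g, hg, hgx⟩ : ∃ g ∈ H, g • x = x' := by
    by_cases hxx : x = x'
    · exact ⟨1, one_mem _, by rw [one_smul, hxx]⟩
    · obtain ⟨z, hz, hzx, hzx'⟩ : ∃ z ∈ P, z ≠ x ∧ z ≠ x' := by
        by_contra hcon
        push Not at hcon
        have hsub : P ⊆ {x, x'} := by
          intro z hz
          by_cases hzx : z = x
          · exact Or.inl hzx
          · exact Or.inr (hcon z hz hzx)
        have h1 : P.ncard ≤ 2 := (Set.ncard_le_ncard hsub (Set.toFinite _)).trans (Set.ncard_insert_le _ _ |>.trans (by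
          rw [Set.ncard_singleton]))
        have h2 : Nat.card P = P.ncard := rfl
        omega
      obtain ⟨g, hg, -, hgx⟩ := h.2 z hz x hx x' hx' (Ne.symm hzx) (Ne.symm hzx')
      exact ⟨g, hg, hgx⟩
  obtain ⟨k, hk, hkx, hky⟩ := h.2 x' hx' (g • y) (h.1 g hg y hy) y' hy'
    (fun he => hxy (by rw [← hgx] at he; exact (smul_left_cancel g he).symm)) (Ne.symm hxy')
  exact ⟨k * g, mul_mem hk hg, by rw [mul_smul, hgx, hkx], by rw [mul_smul, hky]⟩

/-- the permutation of `P` induced by an element of `H` -/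
def ind {H : Subgroup G} {P : Set C} (h : ∀ g ∈ H, ∀ z ∈ P, g • z ∈ P) : H →* Perm P where
  toFun g :=
    { toFun := fun z => ⟨g.1 • z.1, h g.1 g.2 z.1 z.2⟩
      invFun := fun z => ⟨g.1⁻¹ • z.1, h _ (inv_mem g.2) z.1 z.2⟩
      left_inv := fun z => Subtype.ext (inv_smul_smul _ _)
      right_inv := fun z => Subtype.ext (smul_inv_smul _ _) }
  map_one' := by
    ext z
    exact one_smul G z.1
  map_mul' a b := by
    ext z
    exact mul_smul a.1 b.1 z.1

theorem ind_apply {H : Subgroup G} {P : Set C} (h : ∀ g ∈ H, ∀ z ∈ P, g • z ∈ P) (g : H) (z : P) :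
    ((ind h g) z : C) = g.1 • z.1 := rfl

theorem two_pre {H : Subgroup G} {P : Set C} (h : T2 H P) (h3 : 3 ≤ Nat.card P) [Finite P] :
    MulAction.IsMultiplyPretransitive (ind h.1).range P 2 := by
  rw [MulAction.is_two_pretransitive_iff]
  intro a b c d hab hcd
  obtain ⟨g, hg, h1, h2⟩ := h.pair h3 a.2 b.2 c.2 d.2 (fun e => hab (Subtype.ext e)) (fun e => hcd (Subtype.ext e))
  exact ⟨⟨_, ⟨g, hg⟩, rfl⟩, Subtype.ext h1, Subtype.ext h2⟩

theorem exists_three {H : Subgroup G} {P : Set C} (h : T2 H P) (h3 : Nat.card P = 3) (π : Perm P) :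
    ∃ g ∈ H, ∀ z : P, g • (z : C) = π z := by
  have : Finite P := Nat.finite_of_card_ne_zero (by omega)
  have h1 := two_pre h (by omega)
  have h2 : (ind h.1).range = ⊤ := Equiv.Perm.eq_top_of_isMultiplyPretransitive (by rw [h3]; exact h1)
  have h4 : π ∈ (ind h.1).range := by rw [h2]; trivial
  obtain ⟨g, rfl⟩ := h4
  exact ⟨g.1, g.2, fun z => rfl⟩

theorem exists_four {H : Subgroup G} {P : Set C} (h : T2 H P) (h3 : Nat.card P = 4) {π : Perm P} (hπ : Ev π) :
    ∃ g ∈ H, ∀ z : P, g • (z : C) = π z := by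
  classical
  have : Finite P := Nat.finite_of_card_ne_zero (by omega)
  have : Fintype P := Fintype.ofFinite P
  have h1 := two_pre h (by omega)
  have h2 : alternatingGroup P ≤ (ind h.1).range :=
    IsMultiplyPretransitive.alternatingGroup_le _ _ (by rw [h3]; exact h1)
  have h4 : π ∈ (ind h.1).range := h2 (Equiv.Perm.mem_alternatingGroup.2 (sign_ev h3 hπ))
  obtain ⟨g, rfl⟩ := h4
  exact ⟨g.1, g.2, fun z => rfl⟩

end Two

end Cfsg.Agent.H289.D4T
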