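import Cfsg.Agent.H289.D4T.Fano
import Cfsg.Agent.H289.D4T.Perm
import Cfsg.Agent.H289.D4T.Ccp

/-!
# Triality and `CCP`: the residue of the outer nodes (helper289, S4114)

`t` rotates the outer nodes and stabilises the residue `Q` of type `{a, b, c}` of `x`; `prb` : the permutation of the
panel `Pan a x` induced by `θ ^ 3`.
* `outer_core` : `CCP` for the elements of `G` acting on the coordinate `a`;
* `outer_four` : panels with four chambers: contradiction; `outer_three` : panels with three chambers: `prb` has a unique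
  fixed point.
-/

set_option autoImplicit false
set_option linter.unusedSectionVars false

open scoped Pointwise

namespace Cfsg.Agent.H289.D4T

open CoxeterSystem Cfsg.Agent.ChevalleyStructure.CoxeterGeom Cfsg.Agent.Tits.Roots Cfsg.Agent.Nodes
  Cfsg.Agent.Tits.Core Cfsg.Agent.Tits.Core.Bldg Cfsg.Agent.Tits Cfsg.Agent.Tits.Exchange
open Cfsg.Agent.FixBN (Sys)
open Cfsg.Agent.FixOdd (Tw)
open Cfsg.Agent.H289.Tri Cfsg.Agent.H520

variable {W : Type*} [Group W] {cs : CoxeterSystem (TypeD.M 2) W} {C : Type*} {Δ : Bldg cs C}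
  {G : Type*} [Group G] [MulAction G C] {l : ℕ} {a b c : Fin 4} {t : Tw Δ G}

/-- `t` rotates the outer nodes. -/
structure RotD (t : Tw Δ G) (a b c : Fin 4) : Prop where
  out : Out a b c
  one : t.σ 1 = 1
  ab : t.σ a = b
  bc : t.σ b = c
  ca : t.σ c = a

theorem RotD.rot (T : RotD t a b c) : RotD t b c a := by
  obtain ⟨⟨h1, h2, h3, h4, h5, h6⟩, h7, h8, h9, h10⟩ := T
  exact ⟨⟨h2, h3, h1, h6, Ne.symm h4, Ne.symm h5⟩, h7, h9, h10, h8⟩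

theorem RotD.σ3 (T : RotD t a b c) (i : Fin 4) : t.σ (t.σ (t.σ i)) = i := by
  rcases out_all a b c T.out i with rfl | rfl | rfl | rfl
  · rw [T.one, T.one, T.one]
  · rw [T.ab, T.bc, T.ca]
  · rw [T.bc, T.ca, T.ab]
  · rw [T.ca, T.ab, T.bc]

theorem RotD.φ3 (T : RotD t a b c) (w : W) : t.φ (t.φ (t.φ w)) = w := by
  obtain ⟨ω, rfl⟩ := cs.wordProd_surjective w
  rw [map_word, map_word, map_word, List.map_map, List.map_map]
  congr 1
  have : ((⇑t.σ ∘ ⇑t.σ) ∘ ⇑t.σ) = id := funext fun i => T.σ3 i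
  rw [this, List.map_id]

theorem RotD.δ3 (T : RotD t a b c) (x y : C) :
    Δ.δ (t.θ (t.θ (t.θ x))) (t.θ (t.θ (t.θ y))) = Δ.δ x y := by
  rw [t.δ_θ, t.δ_θ, t.δ_θ, T.φ3]

theorem ty_τ {Q : Set C} (hQ : ∀ d ∈ Q, t.θ.symm d ∈ Q) {i : Fin 4} {g : G} (h : Ty Δ Q i g) :
    Ty Δ Q (t.σ i) (t.τ g) := by
  intro d hd
  have h1 := h _ (hQ d hd)
  have h2 : t.θ (g • t.θ.symm d) = t.τ g • d := by rw [t.θ_smul, t.θ.apply_symm_apply]
  rw [← h2]
  rcases h1 with h1 | h1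
  · left
    rw [h1, t.θ.apply_symm_apply]
  · right
    have h3 := t.δ_θ (t.θ.symm d) (g • t.θ.symm d)
    rw [h1, t.φ_simple, t.θ.apply_symm_apply] at h3
    exact h3

theorem symm_mem [Finite C] {f : Equiv.Perm C} {Q : Set C} (hQ : ∀ d ∈ Q, f d ∈ Q) : ∀ d ∈ Q, f.symm d ∈ Q := by
  intro d hd
  have h1 : f '' Q = Q := Set.eq_of_subset_of_ncard_le (by rintro _ ⟨z, hz, rfl⟩; exact hQ z hz)
    (by rw [Set.ncard_image_of_injective _ f.injective]) (Set.toFinite _)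
  rw [← h1] at hd
  obtain ⟨z, hz, rfl⟩ := hd
  rwa [f.symm_apply_apply]

/-- the elements acting on the coordinate `i` -/
def tyS (S : Sys Δ G l) (Q : Set C) (i : Fin 4) (hQ : ∀ d ∈ Q, Δ.Pan i d ⊆ Q) : Subgroup G where
  carrier := {g | Ty Δ Q i g}
  one_mem' := fun d _ => by rw [one_smul]; exact Δ.self_mem_Pan i d
  mul_mem' := by
    intro g k hg hk d hd
    rw [mul_smul]
    have h1 := hk d hd
    rw [← Δ.Pan_eq_of_mem h1]
    exact hg _ (hQ d hd h1)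
  inv_mem' := by
    intro g hg d hd
    have h1 := hg d hd
    rw [Δ.Pan_eq_Res, mem_Res] at h1 ⊢
    have h2 := S.iso g (g⁻¹ • d) d
    rw [smul_inv_smul] at h2
    have h3 : Δ.δ (g⁻¹ • d) d ∈ WJ cs {i} := by rw [← h2]; exact h1
    have h4 := inv_mem h3
    rwa [← Δ.symm] at h4

theorem mem_tyS {S : Sys Δ G l} {Q : Set C} {i : Fin 4} {hQ : ∀ d ∈ Q, Δ.Pan i d ⊆ Q} {g : G} :
    g ∈ tyS S Q i hQ ↔ Ty Δ Q i g := Iff.rfl

/-- the elements fixing all chambers of `Q` -/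
def fxS (G : Type*) [Group G] [MulAction G C] (Q : Set C) : Subgroup G where
  carrier := {g | ∀ d ∈ Q, g • d = d}
  one_mem' := fun d _ => one_smul G d
  mul_mem' := fun {g k} hg hk d hd => by rw [mul_smul, hk d hd, hg d hd]
  inv_mem' := fun {g} hg d hd => by rw [inv_smul_eq_iff, hg d hd]

theorem mem_fxS {Q : Set C} {g : G} : g ∈ fxS G Q ↔ ∀ d ∈ Q, g • d = d := Iff.rfl

/-- the elements stabilising `Q` -/
def stS (G : Type*) [Group G] [MulAction G C] (Q : Set C) : Subgroup G := MulAction.stabilizer G Q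

theorem mem_stS [Finite C] {Q : Set C} {g : G} : g ∈ stS G Q ↔ ∀ d ∈ Q, g • d ∈ Q := by
  constructor
  · intro h d hd
    have h1 : g • Q = Q := h
    rw [← h1]
    exact Set.smul_mem_smul_set hd
  · intro h
    show g • Q = Q
    refine Set.eq_of_subset_of_ncard_le (by rintro _ ⟨z, hz, rfl⟩; exact h z hz) ?_ (Set.toFinite _)
    rw [Set.ncard_smul_set]

theorem fxS_τ {Q : Set C} (hQ : ∀ d ∈ Q, t.θ.symm d ∈ Q) : ∀ g ∈ fxS G Q, t.τ g ∈ fxS G Q := by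
  intro g hg d hd
  have h2 : t.θ (g • t.θ.symm d) = t.τ g • d := by rw [t.θ_smul, t.θ.apply_symm_apply]
  rw [← h2, hg _ (hQ d hd), t.θ.apply_symm_apply]

theorem stS_τ [Finite C] {Q : Set C} (hQ : ∀ d ∈ Q, t.θ.symm d ∈ Q) (hQ' : ∀ d ∈ Q, t.θ d ∈ Q) :
    ∀ g ∈ stS G Q, t.τ g ∈ stS G Q := by
  intro g hg
  rw [mem_stS] at hg ⊢
  intro d hd
  have h2 : t.θ (g • t.θ.symm d) = t.τ g • d := by rw [t.θ_smul, t.θ.apply_symm_apply]
  rw [← h2]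
  exact hQ' _ (hg _ (hQ d hd))

theorem fxS_conj [Finite C] {Q : Set C} : ∀ x ∈ stS G Q, ∀ y ∈ fxS G Q, x * y * x⁻¹ ∈ fxS G Q := by
  intro x hx y hy d hd
  rw [mul_smul, mul_smul, hy _ (mem_stS.1 (inv_mem hx) d hd), smul_inv_smul]

/-! ### The residue -/

/-- elements of different types commute -/
theorem comm_of_ty (S : Sys Δ G l) {Q : Set C} {i j : Fin 4} (hij : i ≠ j) (hQi : ∀ d ∈ Q, Δ.Pan i d ⊆ Q)
    (hQj : ∀ d ∈ Q, Δ.Pan j d ⊆ Q) {x y : G} (hx : Ty Δ Q i x) (hy : Ty Δ Q j y) {d : C} (hd : d ∈ Q) :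
    (x * y) • d = (y * x) • d := by
  have k1 := hQi d hd (hx d hd)
  have k2 := hQj d hd (hy d hd)
  -- both are in `Pan i (y • d) ∩ Pan j (x • d)`
  have a1 : (x * y) • d ∈ Δ.Pan i (y • d) := by rw [mul_smul]; exact hx _ k2
  have a2 : (y * x) • d ∈ Δ.Pan j (x • d) := by rw [mul_smul]; exact hy _ k1
  have a3 : (x * y) • d ∈ Δ.Pan j (x • d) := by
    rw [mul_smul]
    have := hy d hd
    rw [Δ.Pan_eq_Res, mem_Res] at this ⊢
    rwa [S.iso]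
  have a4 : (y * x) • d ∈ Δ.Pan i (y • d) := by
    rw [mul_smul]
    have := hx d hd
    rw [Δ.Pan_eq_Res, mem_Res] at this ⊢
    rwa [S.iso]
  refine eq_of_pan (Δ := Δ) (i := i) (J := {j}) (by simpa using hij) ?_ ?_
  · rw [Δ.Pan_eq_of_mem a4]; exact a1
  · rw [← Δ.Pan_eq_Res, Δ.Pan_eq_of_mem a2]; exact a3

theorem pan_sub {i : Fin 4} {J : Set (Fin 4)} (hi : i ∈ J) {x : C} : ∀ d ∈ Δ.Res J x, Δ.Pan i d ⊆ Δ.Res J x := by
  intro d hd z hz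
  exact Δ.mem_Res_trans hd (Δ.Pan_subset_Res hi _ hz)

/-- an element of type `a` trivial on the panel is trivial on the residue -/
theorem triv_of_pan (S : Sys Δ G l) (hout : Out a b c) {x : C} {g : G} (hg : Ty Δ (Δ.Res {a, b, c} x) a g)
    (h : ∀ z ∈ Δ.Pan a x, g • z = z) : g ∈ fxS G (Δ.Res {a, b, c} x) := by
  intro d hd
  obtain ⟨y, hy, hdy⟩ := exists_pr hout hd
  have h1 : g • d ∈ Δ.Res {b, c} y := by
    have := S.smul_mem_Res (g := g) hdy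
    rwa [h y hy] at this
  refine eq_of_pan (Δ := Δ) (i := a) (J := {b, c}) (by simp [hout.2.2.2.1, hout.2.2.2.2.1]) (hg d hd) ?_
  exact Δ.mem_Res_trans (Δ.mem_Res_symm hdy) h1

section

variable [Finite C]

/-- The permutation of the panel `Pan a x` induced by `θ ^ 3`. -/
theorem exists_prb (D : RotD t a b c) {x : C} (hQ : ∀ d ∈ Δ.Res {a, b, c} x, t.θ d ∈ Δ.Res {a, b, c} x) :
    ∃ β : Equiv.Perm (Δ.Pan a x), ∀ z : Δ.Pan a x, t.θ (t.θ (t.θ z)) ∈ Δ.Res {b, c} (β z : C) := by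
  classical
  have hmem : ∀ z : Δ.Pan a x, t.θ (t.θ (t.θ z)) ∈ Δ.Res {a, b, c} x := fun z =>
    hQ _ (hQ _ (hQ _ (Δ.Pan_subset_Res (by simp) _ z.2)))
  choose f hf1 hf2 using fun z : Δ.Pan a x => exists_pr D.out (hmem z)
  have hinj : Function.Injective fun z : Δ.Pan a x => (⟨f z, hf1 z⟩ : Δ.Pan a x) := by
    intro z z' h
    have h1 : f z = f z' := congrArg Subtype.val h
    have h2 := hf2 z
    have h3 := hf2 z'
    rw [← h1] at h3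
    have h4 := Δ.mem_Res_trans (Δ.mem_Res_symm h2) h3
    rw [mem_Res, D.δ3] at h4
    apply Subtype.ext
    refine (eq_of_pan (Δ := Δ) (i := a) (J := {b, c}) (by simp [D.out.2.2.2.1, D.out.2.2.2.2.1]) ?_ h4).symm
    rw [Δ.Pan_eq_of_mem z.2]
    exact z'.2
  exact ⟨Equiv.ofBijective _ (Finite.injective_iff_bijective.1 hinj), hf2⟩

variable [Finite G] (S : Sys Δ G l) (D : RotD t a b c) {x : C}
  (hQ : ∀ d ∈ Δ.Res {a, b, c} x, t.θ d ∈ Δ.Res {a, b, c} x) {β : Equiv.Perm (Δ.Pan a x)}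
  (hβ : ∀ z : Δ.Pan a x, t.θ (t.θ (t.θ z)) ∈ Δ.Res {b, c} (β z : C))

/-- the group of the elements of type `a` -/
abbrev AA (S : Sys Δ G l) (a b c : Fin 4) (x : C) : Subgroup G :=
  tyS S (Δ.Res {a, b, c} x) a (pan_sub (Δ := Δ) (J := {a, b, c}) (by simp))

theorem AA_pan (S : Sys Δ G l) : ∀ g ∈ AA S a b c x, ∀ z ∈ Δ.Pan a x, g • z ∈ Δ.Pan a x := by
  intro g hg z hz
  have h1 := mem_tyS.1 hg z (Δ.Pan_subset_Res (by simp) _ hz)
  rwa [Δ.Pan_eq_of_mem hz] at h1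

include D hQ hβ in
theorem τ3_act {k : G} (hk : k ∈ AA S a b c x) (hk' : t.τ (t.τ (t.τ k)) ∈ AA S a b c x) :
    ind (AA_pan S) ⟨_, hk'⟩ = β * ind (AA_pan S) ⟨k, hk⟩ * β⁻¹ := by
  rw [eq_mul_inv_iff_mul_eq]
  ext z
  rw [Equiv.Perm.mul_apply, Equiv.Perm.mul_apply, ind_apply]
  change t.τ (t.τ (t.τ k)) • (β z : C) = _
  set z' := ind (AA_pan S) ⟨k, hk⟩ z with hz'
  have e1 : (z' : C) = k • (z : C) := ind_apply _ _ _
  have h1 : t.θ (t.θ (t.θ z')) = t.τ (t.τ (t.τ k)) • t.θ (t.θ (t.θ z)) := by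
    rw [e1, t.θ_smul, t.θ_smul, t.θ_smul]
  refine pr_unique D.out (d := t.θ (t.θ (t.θ z'))) (β z').2 ?_ (hβ z') ?_
  · exact AA_pan S _ hk' _ (β z).2
  · rw [h1]
    exact S.smul_mem_Res (hβ z)

include D hQ hβ in
/-- **`CCP` for the elements acting on the coordinate `a`.** -/
theorem outer_core (hccp : CCP t.τ) {k w x₁ x₂ x₃ : G} (hk : k ∈ AA S a b c x) (hw : w ∈ AA S a b c x)
    (hx1 : x₁ ∈ AA S a b c x) (hx2 : x₂ ∈ AA S a b c x) (hx3 : x₃ ∈ AA S a b c x)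
    (h1 : β * ind (AA_pan S) ⟨k, hk⟩ = ind (AA_pan S) ⟨k, hk⟩ * β)
    (h2 : (ind (AA_pan S) ⟨w, hw⟩)⁻¹ * (β * ind (AA_pan S) ⟨w, hw⟩ * β⁻¹) =
      ind (AA_pan S) ⟨x₃, hx3⟩ * ind (AA_pan S) ⟨k, hk⟩ * (ind (AA_pan S) ⟨x₃, hx3⟩)⁻¹ *
      (ind (AA_pan S) ⟨x₂, hx2⟩ * ind (AA_pan S) ⟨k, hk⟩ * (ind (AA_pan S) ⟨x₂, hx2⟩)⁻¹) *
      (ind (AA_pan S) ⟨x₁, hx1⟩ * ind (AA_pan S) ⟨k, hk⟩ * (ind (AA_pan S) ⟨x₁, hx1⟩)⁻¹)) :
    ind (AA_pan S) ⟨k, hk⟩ = 1 := by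
  have hQs := symm_mem hQ
  set Q := Δ.Res {a, b, c} x with hQd
  have hpa : ∀ d ∈ Q, Δ.Pan a d ⊆ Q := pan_sub (by simp)
  have hpb : ∀ d ∈ Q, Δ.Pan b d ⊆ Q := pan_sub (by simp)
  have hpc : ∀ d ∈ Q, Δ.Pan c d ⊆ Q := pan_sub (by simp)
  obtain ⟨oa, ob, oc, oab, oac, obc⟩ := D.out
  have tyb : ∀ y ∈ AA S a b c x, Ty Δ Q b (t.τ y) := fun y hy => by
    have := ty_τ hQs (mem_tyS.1 hy)
    rwa [D.ab] at this
  have tyc : ∀ y ∈ AA S a b c x, Ty Δ Q c (t.τ (t.τ y)) := fun y hy => by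
    have := ty_τ hQs (tyb y hy)
    rwa [D.bc] at this
  have tya : ∀ y ∈ AA S a b c x, t.τ (t.τ (t.τ y)) ∈ AA S a b c x := fun y hy => by
    have := ty_τ hQs (tyc y hy)
    rwa [D.ca] at this
  have hfx : ∀ y (hy : y ∈ AA S a b c x), ind (AA_pan S) ⟨y, hy⟩ = 1 → y ∈ fxS G Q := by
    intro y hy h
    refine triv_of_pan S D.out (mem_tyS.1 hy) fun z hz => ?_
    have := congrArg (fun f : Equiv.Perm (Δ.Pan a x) => ((f ⟨z, hz⟩ : Δ.Pan a x) : C)) h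
    exact this
  have hAH : AA S a b c x ≤ stS G Q := fun y hy => mem_stS.2 fun d hd => hpa d hd (mem_tyS.1 hy d hd)
  have e3 : ∀ y (hy : y ∈ AA S a b c x), ind (AA_pan S) ⟨_, tya y hy⟩ = β * ind (AA_pan S) ⟨y, hy⟩ * β⁻¹ :=
    fun y hy => τ3_act S D hQ hβ hy (tya y hy)
  have key := tri hccp (H := stS G Q) (N := fxS G Q) (A := AA S a b c x) (stS_τ hQs hQ) (fxS_τ hQs) fxS_conj hAH
    ?_ ?_ hk hw hx1 hx2 hx3 ?_ ?_
  · -- the conclusion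
    ext z
    have hzQ : (z : C) ∈ Q := hpa x (Δ.self_mem_Res _ _) z.2
    rw [ind_apply]
    change k • (z : C) = z
    -- `e = τ k τ² k z`
    have h3 : ((t.τ k * t.τ (t.τ k)) • (z : C)) ∈ Δ.Res {b, c} (z : C) := by
      rw [mul_smul]
      have h4 := tyc k hk z hzQ
      have h5 := tyb k hk _ (hpc _ hzQ h4)
      refine Δ.mem_Res_trans (Δ.Pan_subset_Res (J := {b, c}) (by simp) _ h4) ?_
      exact Δ.Pan_subset_Res (J := {b, c}) (by simp) _ h5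
    have h6 := key z hzQ
    rw [mul_assoc, mul_smul] at h6
    set e := (t.τ k * t.τ (t.τ k)) • (z : C) with he
    have heQ : e ∈ Q := Δ.mem_Res_trans hzQ (Δ.Res_mono (by
      intro i hi
      rcases hi with rfl | rfl <;> simp) _ h3)
    have h7 := mem_tyS.1 hk e heQ
    rw [h6] at h7
    have h8 : (z : C) = e := eq_of_pan (Δ := Δ) (i := a) (J := {b, c}) (by simp [oab, oac]) h7
      (Δ.mem_Res_symm h3)
    rw [← h8] at h6
    exact h6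
  · intro y hy z hz d hd
    rw [mul_smul, inv_smul_eq_iff]
    exact (comm_of_ty S oab hpa hpb (mem_tyS.1 hy) (tyb z hz) hd).symm
  · intro y hy z hz d hd
    rw [mul_smul, inv_smul_eq_iff]
    exact (comm_of_ty S oac hpa hpc (mem_tyS.1 hy) (tyc z hz) hd).symm
  · refine hfx _ (mul_mem (inv_mem hk) (tya k hk)) ?_
    have h3 : ind (AA_pan S) ⟨k⁻¹ * t.τ (t.τ (t.τ k)), mul_mem (inv_mem hk) (tya k hk)⟩ =
        (ind (AA_pan S) ⟨k, hk⟩)⁻¹ * ind (AA_pan S) ⟨_, tya k hk⟩ := by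
      rw [← map_inv, ← map_mul]; rfl
    rw [h3, e3 k hk, h1]
    group
  · have m1 := mul_mem (mul_mem hx1 hk) (inv_mem hx1)
    have m2 := mul_mem (mul_mem hx2 hk) (inv_mem hx2)
    have m3 := mul_mem (mul_mem hx3 hk) (inv_mem hx3)
    refine hfx _ (mul_mem (inv_mem (mul_mem (inv_mem hw) (tya w hw))) (mul_mem (mul_mem m3 m2) m1)) ?_
    have h3 : ind (AA_pan S) ⟨(w⁻¹ * t.τ (t.τ (t.τ w)))⁻¹ * (x₃ * k * x₃⁻¹ * (x₂ * k * x₂⁻¹) * (x₁ * k * x₁⁻¹)),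
        mul_mem (inv_mem (mul_mem (inv_mem hw) (tya w hw))) (mul_mem (mul_mem m3 m2) m1)⟩ =
        ((ind (AA_pan S) ⟨w, hw⟩)⁻¹ * ind (AA_pan S) ⟨_, tya w hw⟩)⁻¹ *
        (ind (AA_pan S) ⟨x₃, hx3⟩ * ind (AA_pan S) ⟨k, hk⟩ * (ind (AA_pan S) ⟨x₃, hx3⟩)⁻¹ *
          (ind (AA_pan S) ⟨x₂, hx2⟩ * ind (AA_pan S) ⟨k, hk⟩ * (ind (AA_pan S) ⟨x₂, hx2⟩)⁻¹) *
          (ind (AA_pan S) ⟨x₁, hx1⟩ * ind (AA_pan S) ⟨k, hk⟩ * (ind (AA_pan S) ⟨x₁, hx1⟩)⁻¹)) := by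
      simp only [← map_inv, ← map_mul]; rfl
    rw [h3, e3 w hw, h2, inv_mul_cancel]

end

/-! ### Panels with three or four chambers -/

/-- the elements of type `a` fixing a chamber are transitive on the other chambers of its `a`-panel -/
def T2o (Δ : Bldg cs C) (G : Type*) [Group G] [MulAction G C] : Prop :=
  ∀ a b c : Fin 4, Out a b c → ∀ y d e : C, Δ.δ y d = cs.simple a → Δ.δ y e = cs.simple a →
    ∃ g : G, Ty Δ (Δ.Res {a, b, c} y) a g ∧ g • y = y ∧ g • d = e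

theorem T2o.t2 [Finite C] [Finite G] (hT : T2o Δ G) (S : Sys Δ G l) (hout : Out a b c) (x : C) : T2 (AA S a b c x) (Δ.Pan a x) := by
  refine ⟨AA_pan S, fun y hy d hd e he hdy hey => ?_⟩
  have h1 : Δ.δ y d = cs.simple a := Δ.δ_eq_of_mem_Pan hy hd (Ne.symm hdy)
  have h2 : Δ.δ y e = cs.simple a := Δ.δ_eq_of_mem_Pan hy he (Ne.symm hey)
  obtain ⟨g, hg, hgy, hgd⟩ := hT a b c hout y d e h1 h2
  rw [Δ.Res_eq_of_mem (Δ.Pan_subset_Res (J := {a, b, c}) (by simp) _ hy)] at hg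
  exact ⟨g, hg, hgy, hgd⟩

theorem ind_eq {H : Subgroup G} {P : Set C} (h : ∀ g ∈ H, ∀ z ∈ P, g • z ∈ P) {g : G} (hg : g ∈ H)
    {π : Equiv.Perm P} (hπ : ∀ z : P, g • (z : C) = π z) : ind h ⟨g, hg⟩ = π := by
  ext z
  exact hπ z

section

variable [Finite C] [Finite G] (S : Sys Δ G l) (D : RotD t a b c) (hccp : CCP t.τ) (hT : T2o Δ G) {x : C}
  (hQ : ∀ d ∈ Δ.Res {a, b, c} x, t.θ d ∈ Δ.Res {a, b, c} x)

include S D hccp hT hQ in
/-- **`q = 3`.** -/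
theorem outer_four (h4 : Nat.card (Δ.Pan a x) = 4) : False := by
  obtain ⟨β, hβ⟩ := exists_prb D hQ
  have h2 := hT.t2 S D.out x
  obtain ⟨k', k1, k2, k3⟩ := t4b' h4 β
  obtain ⟨x', y', x1, y1, e⟩ := t4a' h4 k1
  obtain ⟨k, hk, hk'⟩ := exists_four h2 h4 k1
  obtain ⟨x₂, hx2, hx2'⟩ := exists_four h2 h4 x1
  obtain ⟨x₃, hx3, hx3'⟩ := exists_four h2 h4 y1
  apply k2
  rw [← ind_eq (AA_pan S) hk hk']
  refine outer_core S D hQ hβ hccp hk (one_mem _) (one_mem _) hx2 hx3 ?_ ?_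
  · rw [ind_eq (AA_pan S) hk hk']
    exact k3
  · rw [ind_eq (AA_pan S) hk hk', ind_eq (AA_pan S) hx2 hx2', ind_eq (AA_pan S) hx3 hx3']
    have h1 : ind (AA_pan S) ⟨1, one_mem (AA S a b c x)⟩ = 1 := map_one _
    rw [h1, inv_one, one_mul, mul_one, mul_inv_cancel, one_mul, mul_one, e]

include S D hccp hT hQ in
/-- **`q = 2`.** -/
theorem outer_three (h3 : Nat.card (Δ.Pan a x) = 3) {β : Equiv.Perm (Δ.Pan a x)}
    (hβ : ∀ z : Δ.Pan a x, t.θ (t.θ (t.θ z)) ∈ Δ.Res {b, c} (β z : C)) : ∃ i, β i = i ∧ ∀ j, β j = j → j = i := by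
  have h2 := hT.t2 S D.out x
  rcases t3' h3 β with h | ⟨k', k1, k2, k3⟩
  · exact h
  · exfalso
    obtain ⟨k, hk, hk'⟩ := exists_three h2 h3 k'
    apply k1
    rw [← ind_eq (AA_pan S) hk hk']
    refine outer_core S D hQ hβ hccp hk (one_mem _) (one_mem _) (one_mem _) (one_mem _) ?_ ?_
    · rw [ind_eq (AA_pan S) hk hk']
      exact k2
    · have h1 : ind (AA_pan S) ⟨1, one_mem (AA S a b c x)⟩ = 1 := map_one _
      rw [ind_eq (AA_pan S) hk hk', h1, inv_one, one_mul, mul_one, mul_inv_cancel, one_mul, mul_one, k3]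

include S D hccp hT hQ in
/-- `q = 2`: a fixed chamber -/
theorem exists_fixed_three [F : OppRes.Cox cs] (h3 : Nat.card (Δ.Pan a x) = 3) :
    ∃ z ∈ Δ.Res {a, b, c} x, t.θ z = z := by
  obtain ⟨β, hβ⟩ := exists_prb D hQ
  obtain ⟨y, hy, -⟩ := outer_three S D hccp hT hQ h3 hβ
  obtain ⟨oa, ob, oc, oab, oac, obc⟩ := D.out
  have hy3 := hβ y
  rw [hy] at hy3
  have hyQ : (y : C) ∈ Δ.Res {a, b, c} x := Δ.Pan_subset_Res (by simp) _ y.2
  have e1 : ({b, c, a} : Set (Fin 4)) = {a, b, c} := by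
    ext i; simp only [Set.mem_insert_iff, Set.mem_singleton_iff]; tauto
  have e2 : ({c, a, b} : Set (Fin 4)) = {a, b, c} := by
    ext i; simp only [Set.mem_insert_iff, Set.mem_singleton_iff]; tauto
  obtain ⟨z2, hz2, hy2⟩ := exists_pr (Δ := Δ) D.rot.out (x := (y : C)) (d := t.θ y) (by
    rw [e1, Δ.Res_eq_of_mem hyQ]; exact hQ _ hyQ)
  have hz2Q : z2 ∈ Δ.Res {a, b, c} x := Δ.mem_Res_trans hyQ (Δ.Pan_subset_Res (by simp) _ hz2)
  obtain ⟨z, hz, hy2'⟩ := exists_pr (Δ := Δ) D.rot.rot.out (x := z2) (d := t.θ (t.θ y)) (by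
    rw [e2, Δ.Res_eq_of_mem hz2Q]; exact hQ _ (hQ _ hyQ))
  have hzQ : z ∈ Δ.Res {a, b, c} x := Δ.mem_Res_trans hz2Q (Δ.Pan_subset_Res (by simp) _ hz)
  -- the coordinates of `z`
  have p1 : z ∈ Δ.Res {b, c} (y : C) :=
    Δ.mem_Res_trans (Δ.Pan_subset_Res (J := {b, c}) (by simp) _ hz2) (Δ.Pan_subset_Res (by simp) _ hz)
  have p2 : t.θ y ∈ Δ.Res {c, a} z := by
    have h1 : z ∈ Δ.Res {c, a} z2 := Δ.Pan_subset_Res (by simp) _ hz
    rw [Δ.Res_eq_of_mem h1]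
    exact hy2
  have p3 : t.θ (t.θ y) ∈ Δ.Res {a, b} z := hy2'
  -- the coordinates of `θ z`
  have r1 : ∀ {i j : Fin 4} {u v : C}, v ∈ Δ.Res {i, j} u → t.θ v ∈ Δ.Res {t.σ i, t.σ j} (t.θ u) := by
    intro i j u v h
    refine θ_mem_Res' t ?_ h
    rintro k (rfl | rfl) <;> simp
  have q1 := r1 p1
  rw [D.bc, D.ca] at q1
  have q2 := r1 p2
  rw [D.ca, D.ab] at q2
  have q3 := r1 p3
  rw [D.ab, D.bc] at q3
  have s1 : t.θ z ∈ Δ.Res {c, a} z := Δ.mem_Res_trans p2 q1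
  have s2 : t.θ z ∈ Δ.Res {a, b} z := Δ.mem_Res_trans p3 (Δ.mem_Res_symm q2)
  have s3 : t.θ z ∈ Δ.Res {b, c} z :=
    Δ.mem_Res_trans (Δ.mem_Res_symm p1) (Δ.mem_Res_trans hy3 (Δ.mem_Res_symm q3))
  refine ⟨z, hzQ, ?_⟩
  have h1 := F.WJ_inter s1 s2
  have h2 := F.WJ_inter h1 s3
  have h4 : (({c, a} : Set (Fin 4)) ∩ {a, b}) ∩ {b, c} = ∅ := by
    ext i
    simp only [Set.mem_inter_iff, Set.mem_insert_iff, Set.mem_singleton_iff, Set.mem_empty_iff_false, iff_false]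
    rintro ⟨⟨rfl | rfl, h5 | h5⟩, h6 | h6⟩
    all_goals first
      | exact oac h5.symm
      | exact oac h5
      | exact obc h5.symm
      | exact oab h6
      | exact oac h6
  rw [h4] at h2
  have h5 : t.θ z ∈ Δ.Res ∅ z := h2
  rw [Δ.Res_empty] at h5
  exact h5

end

end Cfsg.Agent.H289.D4T
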