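import Cfsg.Agent.H289.D4T.Borel

/-!
# Triality and `CCP`: the root group datum (helper289, S4114)

`DT`, `T2o`, `T5` for the building of a root group datum of type `D₄`.
-/

set_option autoImplicit false
set_option linter.unusedSectionVars false

open scoped Pointwise

namespace Cfsg.Agent.H289.D4T

open CoxeterSystem Cfsg.Agent.ChevalleyStructure.CoxeterGeom Cfsg.Agent.Tits.Roots Cfsg.Agent.Tits.Core
  Cfsg.Agent.Tits.RootComb Cfsg.Agent.Nodes Cfsg.Agent.Nodes.Comb Cfsg.Agent.Nodes.Reps Cfsg.Agent.Nodes.BNOf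
  Cfsg.Agent.Nodes.BNOf.RGD
  Cfsg.Agent.FixBN Cfsg.Agent.Tits.OfBN Cfsg.Agent.Tits.OppRes Cfsg.Agent.LieExceptional.BNPairCore
  Cfsg.Agent.OddHalf.Table.AutBldg Cfsg.Agent.OddHalf.Table.AutRGD Cfsg.Agent.OddHalf.Table.AutNorm
  Cfsg.Agent.Tits Cfsg.Agent.Nodes.RGDLib Cfsg.Agent.UGT.U2.FOne
open Cfsg.Agent.Tits.Core.Bldg Cfsg.Agent.H289.Tri

section Conj

variable {W : Type*} [Group W] {cs : CoxeterSystem (TypeD.M 2) W} {C : Type*} {Δ : Bldg cs C}
  {G : Type*} [Group G] [MulAction G C] {l : ℕ}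

theorem ty_conj (S : Sys Δ G l) {Q : Set C} {i : Fin 4} {u : G} (h : Ty Δ Q i u) (g : G) :
    Ty Δ (g • Q) i (g * u * g⁻¹) := by
  rintro _ ⟨d, hd, rfl⟩
  change (g * u * g⁻¹) • g • d ∈ Δ.Pan i (g • d)
  rw [mul_smul, inv_smul_smul, mul_smul]
  have := h d hd
  rw [Δ.Pan_eq_Res, mem_Res] at this ⊢
  rwa [S.iso]

end Conj

variable {W Y : Type*} [Group W] [Group Y]
  {cs : CoxeterSystem (TypeD.M 2) W} {A : Fin 4 → Fin 4 → ℤ} {h : IsCartan (TypeD.M 2) A} {l : ℕ}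
  {T : Subgroup Y} {n : Fin 4 → Y} {X : (Fin 4 → ℤ) → Subgroup Y} [Finite W]

variable (R : RGD cs h l T n X) (hgen : B cs h T X ⊔ NN cs R.nsys = ⊤)
  [hN : (((R.bnPair hgen).B ⊓ (R.bnPair hgen).N).subgroupOf (R.bnPair hgen).N).Normal]
  (cs' : CoxeterSystem (TypeD.M 2) (WP (R.bnPair hgen)))
  (hcs : ∀ i, cs'.simple i = QuotientGroup.mk
    (⟨(eS R hgen i : Y), (R.bnPair hgen).subset (eS R hgen i).2⟩ : (R.bnPair hgen).N))

theorem dt : DT (Bl R hgen cs' hcs) Y := fun x y x' y' h => Tits.OfBN.trans (R.bnPair hgen) x y x' y' h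

theorem t2o [Fact l.Prime] [Finite Y] (hcore : (B cs h T X).normalCore = ⊥) : T2o (Bl R hgen cs' hcs) Y := by
  have hW : Finite (WP (R.bnPair hgen)) := inferInstance
  have hC : Cox cs := inferInstance
  have hC' : Cox cs' := inferInstance
  set S := Sy R hgen cs' hcs hcore with hS
  intro a b c hout y d e hd he
  obtain ⟨g, rfl⟩ := QuotientGroup.mk_surjective y
  obtain ⟨oa, ob, oc, oab, oac, obc⟩ := hout
  have hd' : (Bl R hgen cs' hcs).δ (ch R hgen 1) (g⁻¹ • d) = cs'.simple a := by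
    have h1 := S.iso g⁻¹ (ch R hgen g) d
    rwa [smul_ch, inv_mul_cancel, hd] at h1
  have he' : (Bl R hgen cs' hcs).δ (ch R hgen 1) (g⁻¹ • e) = cs'.simple a := by
    have h1 := S.iso g⁻¹ (ch R hgen g) e
    rwa [smul_ch, inv_mul_cancel, he] at h1
  obtain ⟨x, hx, h1⟩ := pan_eq R hgen cs' hcs a hd'
  obtain ⟨x', hx', h2⟩ := pan_eq R hgen cs' hcs a he'
  have hu : x' * x⁻¹ ∈ X (sr a) := mul_mem hx' (inv_mem hx)
  obtain ⟨u, hu'⟩ : ∃ u, u = x' * x⁻¹ := ⟨_, rfl⟩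
  rw [← hu'] at hu
  have e1 : (QuotientGroup.mk g : Y ⧸ (R.bnPair hgen).B) = g • ch R hgen 1 := by rw [smul_ch, mul_one]
  refine ⟨g * u * g⁻¹, ?_, ?_, ?_⟩
  · rw [e1, ← S.smul_Res]
    refine ty_conj S ?_ g
    refine ty_of_fix S ⟨oa, ob, oc, oab, oac, obc⟩ ?_
    refine X_fix_res R hgen cs' hcs hcore rp_one (isRoot_sr cs h a) (j := a) ?_ (by simp [oab, oac]) ?_ hu
    · rw [inv_one, map_one, Module.End.one_apply]; exact sr_nonneg a
    · rw [inv_one, map_one, Module.End.one_apply]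
      simp [sr]
  · rw [e1, mul_smul, inv_smul_smul, mul_smul]
    congr 1
    exact X_smul_ch R hgen rp_one (isRoot_sr cs h a) (by
      rw [inv_one, map_one, Module.End.one_apply]; exact sr_nonneg a) hu
  · rw [mul_smul, mul_smul, h1, ← eq_inv_smul_iff, h2, hu']
    change (QuotientGroup.mk (x' * x⁻¹ * (x * n a)) : Y ⧸ (R.bnPair hgen).B) = _
    congr 1
    group

theorem t5 [Fact l.Prime] [Finite Y] (hcore : (B cs h T X).normalCore = ⊥) : T5 (Bl R hgen cs' hcs) Y := by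
  have hW : Finite (WP (R.bnPair hgen)) := inferInstance
  have hC : Cox cs := inferInstance
  have hC' : Cox cs' := inferInstance
  set S := Sy R hgen cs' hcs hcore with hS
  intro a b c hout d0 d1 h01
  obtain ⟨oa, ob, oc, oab, oac, obc⟩ := hout
  have r1 := rp_simple cs R.nsys (1 : Fin 4)
  have h0 : (Bl R hgen cs' hcs).δ (ch R hgen 1) (ch R hgen (n 1)) = cs'.simple 1 := by
    rw [δ_rp R hgen cs' hcs rp_one r1, inv_one, one_mul, fw_simple]
  obtain ⟨g, hg0, hg1⟩ := dt R hgen cs' hcs _ _ _ _ (h0.trans h01.symm)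
  obtain ⟨u, hu, hu1⟩ := Triality.exists_ne_one R (isRoot_sr cs h a)
  have hact : ∀ z : Y ⧸ (R.bnPair hgen).B, (g * u * g⁻¹) • z = g • u • g⁻¹ • z := fun z => by
    rw [mul_smul, mul_smul]
  have hres : ∀ (J : Set (Fin 4)) (k d z : Y ⧸ (R.bnPair hgen).B), g • k = d → z ∈ (Bl R hgen cs' hcs).Res J d →
      g⁻¹ • z ∈ (Bl R hgen cs' hcs).Res J k := by
    intro J k d z hk hz
    have h1 := S.smul_mem_Res (g := g⁻¹) hz
    rwa [← hk, inv_smul_smul] at h1
  refine ⟨g * u * g⁻¹, fun z hz => ?_, fun z hz => ?_, fun z hz hzz => ?_⟩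
  · rw [hact, ← eq_inv_smul_iff]
    refine X_fix_res R hgen cs' hcs hcore rp_one (isRoot_sr cs h a) (J := {1, b, c}) (j := a) ?_
      (by simp [oa, oab, oac]) ?_ hu _ (hres _ _ _ _ hg0 hz)
    · rw [inv_one, map_one, Module.End.one_apply]; exact sr_nonneg a
    · rw [inv_one, map_one, Module.End.one_apply]
      simp [sr]
  · change (g * u * g⁻¹) • z = z
    rw [hact, ← eq_inv_smul_iff]
    rw [Bldg.Pan_eq_Res] at hz
    have hroot : ∀ a : Fin 4, a ≠ 1 → (∀ i, 0 ≤ act [1] (Pi.single a 1) i) ∧ 0 < act [1] (Pi.single a 1) 1 := by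
      decide
    obtain ⟨q1, q2⟩ := hroot a oa
    have q3 : rep cs h (cs.simple 1)⁻¹ (sr a) = act [1] (Pi.single a 1) := by
      rw [cs.inv_simple, ← cs.wordProd_singleton, rep_word cs h]; rfl
    refine X_fix_res R hgen cs' hcs hcore r1 (isRoot_sr cs h a) (J := {a}) (j := 1) ?_
      (by simp [Ne.symm oa]) ?_ hu _ (hres _ _ _ _ hg1 hz)
    · rw [q3]; exact q1
    · rw [q3]; exact q2
  · change (g * u * g⁻¹) • z = z at hzz
    rw [hact, ← eq_inv_smul_iff] at hzz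
    refine X_move R hgen cs' hcs hcore (rp_one (cs := cs) (hN := R.nsys)) (i := a) (u := u) ?_ hu1 ?_ hzz
    · rw [map_one, Module.End.one_apply]; exact hu
    · have h1 := S.iso g⁻¹ d0 z
      rw [hz, ← hg0, inv_smul_smul] at h1
      exact h1

end Cfsg.Agent.H289.D4T
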